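import Cfsg.Agent.Lib.Pairs.DihedralTop.Chain

/-!
# The Sims chain has length at most four

The first two members of the sequence that do not commute are `d` apart; their commutator is
pushed inward by the other members of the sequence, which forces `(s, d)` to be `(3, 2)` or
`(4, 3)` once `(6, 4)` is ruled out.
-/

set_option autoImplicit false
set_option linter.all false

namespace CfsgLib.Pairs.DihedralTop

open Subgroup

universe u

variable {G : Type u} [Group G] [Finite G]

/-- The sequence of involutions together with its properties. -/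
structure Seq (H P Q : Subgroup G) (y k x : G) (s : ℕ) : Prop where
  top : Top H P Q y k
  two_le : 2 ≤ s
  inv : x * x = 1
  card : ∀ l ≤ s, Nat.card (seg y k x 0 l) = 2 ^ l
  eq_P : seg y k x 0 s = P
  eq_R : seg y k x 0 (s - 1) = chain P y k 1

/-- The four elements of the group generated by two commuting involutions. -/
theorem mem_closure_pair {u v a : G} (hu : u * u = 1) (hv : v * v = 1) (huv : u * v = v * u)
    (ha : a ∈ closure {u, v}) : a = 1 ∨ a = u ∨ a = v ∨ a = u * v := by
  have hX : ∀ b c : G, (b = 1 ∨ b = u ∨ b = v ∨ b = u * v) → (c = u ∨ c = v) →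
      b * c = 1 ∨ b * c = u ∨ b * c = v ∨ b * c = u * v := by
    have h1 : u * v * u = v := by rw [huv, mul_assoc, hu, mul_one]
    have h2 : u * v * v = u := by rw [mul_assoc, hv, mul_one]
    rintro b c (hb | hb | hb | hb) (hc | hc) <;> subst b c <;>
      simp [hu, hv, h1, h2, ← huv]
  induction ha using closure_induction_right with
  | one => exact Or.inl rfl
  | mul_right b hb c hc ih => exact hX b c ih hc
  | mul_inv_cancel b hb c hc ih =>
    rcases hc with rfl | rfl
    · rw [inv_eq_of_mul_eq_one_right hu]; exact hX b _ ih (Or.inl rfl)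
    · rw [inv_eq_of_mul_eq_one_right hv]; exact hX b _ ih (Or.inr rfl)

theorem exists_Seq {H P Q : Subgroup G} {y k : G} (T : Top H P Q y k) :
    ∃ s x, Seq H P Q y k x s ∧ Nat.card P = 2 ^ s := by
  obtain ⟨s, x, h1, hx, hxx, hP, hl⟩ := T.exists_seq
  refine ⟨s, x, ⟨T, ?_, hxx, fun l hls => by rw [(hl l hls).1]; exact (hl l hls).2, ?_, ?_⟩, hP⟩
  · by_contra h
    have hs : s = 1 := by omega
    have : Nat.card Q = 1 := by
      have := T.Q_card
      rw [hP, hs] at this
      omega
    exact T.Q_ne (Subgroup.eq_bot_of_card_eq Q this)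
  · rw [(hl s le_rfl).1, Nat.sub_self]; rfl
  · rw [(hl (s - 1) (Nat.sub_le _ _)).1, show s - (s - 1) = 1 by omega]

namespace Seq

variable {H P Q : Subgroup G} {y k x : G} {s : ℕ} (S : Seq H P Q y k x s)
include S

theorem xs_add (m i : ℕ) : ((sh y k) ^ m : MulAut G) (xs y k x i) = xs y k x (m + i) := by
  rw [xs, xs, pow_add, MulAut.mul_apply]

theorem sq (i : ℕ) : xs y k x i * xs y k x i = 1 := by
  rw [xs, ← map_mul, S.inv, map_one]

theorem inv_eq (i : ℕ) : (xs y k x i)⁻¹ = xs y k x i :=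
  inv_eq_of_mul_eq_one_right (S.sq i)

theorem mem_seg {i l j : ℕ} (h1 : i ≤ j) (h2 : j < i + l) : xs y k x j ∈ seg y k x i l :=
  subset_closure ⟨j, h1, h2, rfl⟩

theorem seg_le {i l i' l' : ℕ} (h1 : i' ≤ i) (h2 : i + l ≤ i' + l') : seg y k x i l ≤ seg y k x i' l' :=
  (closure_le _).2 fun _ ⟨j, h3, h4, h5⟩ => h5 ▸ S.mem_seg (h1.trans h3) (by omega)

theorem seg_zero (i : ℕ) : seg y k x i 0 = ⊥ := by
  rw [seg, closure_eq_bot_iff]
  rintro a ⟨j, h1, h2, -⟩
  omega

theorem seg_map (m i l : ℕ) :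
    (seg y k x i l).map ((sh y k) ^ m : MulAut G).toMonoidHom = seg y k x (m + i) l := by
  rw [seg, seg, MonoidHom.map_closure]
  congr 1
  ext a
  constructor
  · rintro ⟨b, ⟨j, h1, h2, rfl⟩, rfl⟩
    exact ⟨m + j, by omega, by omega, S.xs_add m j⟩
  · rintro ⟨j, h1, h2, rfl⟩
    refine (Set.mem_image _ _ _).2 ⟨xs y k x (j - m), ?_, ?_⟩
    · show ∃ q, i ≤ q ∧ q < i + l ∧ xs y k x (j - m) = xs y k x q
      exact ⟨j - m, by omega, by omega, rfl⟩
    · show ((sh y k) ^ m : MulAut G) (xs y k x (j - m)) = _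
      rw [S.xs_add, show m + (j - m) = j by omega]

theorem shift_mem {m i l : ℕ} {a : G} :
    ((sh y k) ^ m : MulAut G) a ∈ seg y k x (m + i) l ↔ a ∈ seg y k x i l := by
  rw [← S.seg_map m i l]
  exact mem_map_iff_mem (f := ((sh y k) ^ m : MulAut G).toMonoidHom) ((sh y k) ^ m : MulAut G).injective

theorem card_seg {i l : ℕ} (h : l ≤ s) : Nat.card (seg y k x i l) = 2 ^ l := by
  have := S.seg_map i 0 l
  rw [Nat.add_zero] at this
  rw [← this, card_map_of_injective ((sh y k) ^ i : MulAut G).injective, S.card l h]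

theorem not_top {i l : ℕ} (h : l < s) : xs y k x (i + l) ∉ seg y k x i l := fun hm => by
  have hle : seg y k x i (l + 1) ≤ seg y k x i l := (closure_le _).2 fun a ⟨j, h1, h2, h3⟩ => by
    rcases Nat.lt_or_ge j (i + l) with hj | hj
    · exact h3 ▸ S.mem_seg h1 hj
    · rw [show j = i + l by omega] at h3; exact h3 ▸ hm
  have := Subgroup.card_le_of_le hle
  rw [S.card_seg h, S.card_seg h.le, pow_succ] at this
  have := Nat.two_pow_pos l
  omega

theorem not_bot {i l : ℕ} (h : l < s) : xs y k x i ∉ seg y k x (i + 1) l := fun hm => by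
  have hle : seg y k x i (l + 1) ≤ seg y k x (i + 1) l := (closure_le _).2 fun a ⟨j, h1, h2, h3⟩ => by
    rcases Nat.lt_or_ge i j with hj | hj
    · exact h3 ▸ S.mem_seg hj (by omega)
    · rw [show j = i by omega] at h3; exact h3 ▸ hm
  have := Subgroup.card_le_of_le hle
  rw [S.card_seg h, S.card_seg h.le, pow_succ] at this
  have := Nat.two_pow_pos l
  omega

theorem ne_one {i : ℕ} : xs y k x i ≠ 1 := fun h => by
  have := S.not_top (i := i) (l := 0) (by have := S.two_le; omega)
  rw [Nat.add_zero, h] at this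
  exact this (one_mem _)

theorem two_half {i l i' : ℕ} (h : l < s) (h1 : i ≤ i') (h2 : i' ≤ i + 1) :
    seg y k x i' l ≤ seg y k x i (l + 1) ∧
      Nat.card (seg y k x i (l + 1)) = 2 * Nat.card (seg y k x i' l) :=
  ⟨S.seg_le h1 (by omega), by rw [S.card_seg h, S.card_seg h.le, pow_succ']⟩

theorem cases_top {i l : ℕ} {a : G} (h : l < s) (ha : a ∈ seg y k x i (l + 1)) :
    a ∈ seg y k x i l ∨ a * xs y k x (i + l) ∈ seg y k x i l := by
  obtain ⟨h1, h2⟩ := S.two_half (i := i) h le_rfl (Nat.le_succ i)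
  by_cases hm : a ∈ seg y k x i l
  · exact Or.inl hm
  · exact Or.inr ((mul_mem_iff h1 h2 ha (S.mem_seg (by omega) (by omega))).2
      (iff_of_false hm (S.not_top h)))

theorem cases_bot {i l : ℕ} {a : G} (h : l < s) (ha : a ∈ seg y k x i (l + 1)) :
    a ∈ seg y k x (i + 1) l ∨ xs y k x i * a ∈ seg y k x (i + 1) l := by
  obtain ⟨h1, h2⟩ := S.two_half (i := i) (i' := i + 1) h (Nat.le_succ i) le_rfl
  by_cases hm : a ∈ seg y k x (i + 1) l
  · exact Or.inl hm
  · exact Or.inr ((mul_mem_iff h1 h2 (S.mem_seg le_rfl (by omega)) ha).2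
      (iff_of_false (S.not_bot h) hm))

theorem inter {i l : ℕ} {a : G} (h : l + 2 ≤ s) (h1 : a ∈ seg y k x i (l + 1))
    (h2 : a ∈ seg y k x (i + 1) (l + 1)) : a ∈ seg y k x (i + 1) l := by
  rcases S.cases_top (by omega) h2 with h3 | h3
  · exact h3
  · exfalso
    have h4 : a * xs y k x (i + 1 + l) ∈ seg y k x i (l + 1) := S.seg_le (by omega) (by omega) h3
    have h5 : xs y k x (i + (l + 1)) ∈ seg y k x i (l + 1) := by
      have := mul_mem (inv_mem h1) h4
      rwa [inv_mul_cancel_left, show i + 1 + l = i + (l + 1) by omega] at this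
    exact S.not_top (by omega) h5

/-- The commutator of the two ends of a block lies between them. -/
theorem comm_mem {i l : ℕ} (h : l + 2 ≤ s) :
    xs y k x i * xs y k x (i + l + 1) * xs y k x i * xs y k x (i + l + 1) ∈ seg y k x (i + 1) l := by
  have h0 : xs y k x i ∈ seg y k x i (l + 1 + 1) := S.mem_seg le_rfl (by omega)
  have h1 : xs y k x (i + l + 1) ∈ seg y k x i (l + 1 + 1) := S.mem_seg (by omega) (by omega)
  obtain ⟨hl, hl'⟩ := S.two_half (i := i) (l := l + 1) (by omega) le_rfl (Nat.le_succ i)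
  obtain ⟨hr, hr'⟩ := S.two_half (i := i) (l := l + 1) (i' := i + 1) (by omega) (Nat.le_succ i) le_rfl
  refine S.inter h ?_ ?_
  · have h2 := (conj_mem_iff hl hl' h1 h0).2 (S.mem_seg (i := i) (l := l + 1) le_rfl (by omega))
    rw [S.inv_eq] at h2
    have := mul_mem (S.mem_seg (i := i) (l := l + 1) le_rfl (by omega)) h2
    simpa [mul_assoc] using this
  · have h2 := (conj_mem_iff hr hr' h0 h1).2 (S.mem_seg (i := i + 1) (l := l + 1) (by omega) (by omega))
    rw [S.inv_eq] at h2
    exact mul_mem h2 (S.mem_seg (i := i + 1) (l := l + 1) (by omega) (by omega))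

theorem comm_seg {i l : ℕ} {g a : G} (hg : ∀ j, i ≤ j → j < i + l → Commute g (xs y k x j))
    (ha : a ∈ seg y k x i l) : Commute g a :=
  by
  have hle : seg y k x i l ≤ centralizer ({g} : Set G) := by
    refine (closure_le _).2 ?_
    rintro _ ⟨j, h1, h2, rfl⟩
    exact mem_centralizer_singleton_iff.2 (hg j h1 h2).symm.eq
  exact (show Commute a g from mem_centralizer_singleton_iff.1 (hle ha)).symm

theorem mem_P {i : ℕ} (h : i < s) : xs y k x i ∈ P := by
  rw [← S.eq_P]; exact S.mem_seg (Nat.zero_le i) (by omega)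

theorem eq_Q : seg y k x 1 (s - 1) = Q := by
  refine eq_of_le_of_card_ge ?_ ?_
  · rw [← S.seg_map 1 0, S.eq_R]
    rintro _ ⟨a, ha, rfl⟩
    show ((sh y k) ^ 1 : MulAut G) a ∈ Q
    rw [pow_one]
    exact S.top.shift_one_mem ha
  · have h := S.top.Q_card
    have h2 := S.two_le
    rw [← S.eq_P, S.card_seg le_rfl] at h
    rw [S.card_seg (Nat.sub_le s 1)]
    have : 2 ^ s = 2 * 2 ^ (s - 1) := by rw [← pow_succ', show s - 1 + 1 = s by omega]
    omega

theorem eq_conj : seg y k x 1 s = P.map (MulAut.conj k).toMonoidHom := by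
  rw [← S.seg_map 1 0, S.eq_P]
  conv_rhs => rw [← S.top.y_P, Subgroup.map_map]
  congr 1
  ext a
  show ((sh y k) ^ 1 : MulAut G) a = k * (y * a * y⁻¹) * k⁻¹
  rw [pow_one]
  show k * y * a * (k * y)⁻¹ = _
  group

theorem le_of_gen {X : Subgroup G} (h : ∀ i ≤ s, xs y k x i ∈ X) : H ≤ X := by
  refine S.top.gen X ?_ ?_
  · rw [← S.eq_P]; exact (closure_le _).2 fun _ ⟨j, _, h2, h3⟩ => h3 ▸ h j (by omega)
  · rw [← S.eq_conj]; exact (closure_le _).2 fun _ ⟨j, _, h2, h3⟩ => h3 ▸ h j (by omega)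

theorem mem_H {i : ℕ} (h : i ≤ s) : xs y k x i ∈ H := by
  rcases Nat.lt_or_ge i s with h' | h'
  · exact S.top.P_le (S.mem_P h')
  · have hs := S.two_le
    have : xs y k x i ∈ seg y k x 1 s := S.mem_seg (by omega) (by omega)
    rw [S.eq_conj] at this
    obtain ⟨b, hb, hbe⟩ := this
    rw [← hbe]
    exact H.mul_mem (H.mul_mem S.top.k_mem (S.top.P_le hb)) (H.inv_mem S.top.k_mem)

theorem central {a : G} (h : ∀ i ≤ s, Commute a (xs y k x i)) : ∀ g ∈ H, g * a = a * g := fun g hg =>
  mem_centralizer_singleton_iff.1 (S.le_of_gen (fun i hi => mem_centralizer_singleton_iff.2 (h i hi).symm.eq) hg)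

theorem normal_of {D : Subgroup G}
    (h : ∀ i ≤ s, ∀ a ∈ D, xs y k x i * a * (xs y k x i)⁻¹ ∈ D) :
    ∀ g ∈ H, ∀ a ∈ D, g * a * g⁻¹ ∈ D := fun g hg a ha =>
  (mem_normalizer_iff.1 (S.le_of_gen (X := normalizer (D : Set G))
    (fun i hi => Subgroup.mem_normalizer_fintype (h i hi)) hg) a).1 ha

theorem mid_inv {a : G} (ha : a ∈ seg y k x 1 (s - 2)) : y * a * y⁻¹ ∈ seg y k x 1 (s - 2) := by
  have hs := S.two_le
  have hQ : a ∈ Q := by rw [← S.eq_Q]; exact S.seg_le le_rfl (by omega) ha
  have hR : a ∈ chain P y k 1 := by rw [← S.eq_R]; exact S.seg_le (by omega) (by omega) ha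
  refine S.inter (i := 0) (l := s - 2) (by omega) ?_ ?_
  · rw [show s - 2 + 1 = s - 1 by omega, S.eq_R]
    exact S.top.mem_chain_one.2 (S.top.sq_Q hQ)
  · rw [show s - 2 + 1 = s - 1 by omega, Nat.zero_add, S.eq_Q]
    exact S.top.mem_chain_one.1 hR

theorem mid_bot (h : ∀ i ≤ s, ∀ a ∈ seg y k x 1 (s - 2),
    xs y k x i * a * (xs y k x i)⁻¹ ∈ seg y k x 1 (s - 2)) : s = 2 := by
  have hs := S.two_le
  have hb : seg y k x 1 (s - 2) = ⊥ := S.top.free _
    ((S.seg_le (Nat.zero_le 1) (by omega)).trans S.eq_P.le) (S.normal_of h) fun a ha => S.mid_inv ha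
  have := S.card_seg (i := 1) (l := s - 2) (Nat.sub_le s 2)
  rw [hb, Subgroup.card_bot] at this
  rcases Nat.eq_zero_or_pos (s - 2) with h' | h'
  · omega
  · have := Nat.one_lt_two_pow h'.ne'
    omega

/-- Shifting preserves commuting. -/
theorem comm_shift {i j m : ℕ} :
    Commute (xs y k x (m + i)) (xs y k x (m + j)) ↔ Commute (xs y k x i) (xs y k x j) := by
  rw [← S.xs_add, ← S.xs_add, commute_iff_eq, commute_iff_eq, ← map_mul, ← map_mul]
  exact ((sh y k) ^ m : MulAut G).injective.eq_iff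

theorem two_case (h : ∀ e, 1 ≤ e → e < s → Commute (xs y k x 0) (xs y k x e)) :
    s = 2 ∧ ∀ a ∈ P, a * a = 1 := by
  have hcomm : ∀ i j, i < j + s → j < i + s → Commute (xs y k x i) (xs y k x j) := by
    intro i j h1 h2
    rcases lt_trichotomy i j with hij | rfl | hij
    · have := (S.comm_shift (m := i) (i := 0) (j := j - i)).2 (h _ (by omega) (by omega))
      rwa [Nat.add_zero, Nat.add_sub_cancel' hij.le] at this
    · exact Commute.refl _
    · have := (S.comm_shift (m := j) (i := 0) (j := i - j)).2 (h _ (by omega) (by omega))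
      rw [Nat.add_zero, Nat.add_sub_cancel' hij.le] at this
      exact this.symm
  have hs : s = 2 := by
    refine S.mid_bot fun i hi a ha => ?_
    have : Commute (xs y k x i) a := S.comm_seg (fun j h1 h2 => hcomm i j (by omega) (by omega)) ha
    rwa [this.eq, mul_inv_cancel_right]
  refine ⟨hs, fun a ha => ?_⟩
  rw [← S.eq_P, hs] at ha
  have hle : seg y k x 0 2 ≤ closure {xs y k x 0, xs y k x 1} := (closure_le _).2 fun b ⟨j, _, h2, h3⟩ => by
    rcases (show j = 0 ∨ j = 1 by omega) with rfl | rfl <;> subst h3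
    · exact subset_closure (Or.inl rfl)
    · exact subset_closure (Or.inr rfl)
  have hc := hcomm 0 1 (by omega) (by omega)
  rcases mem_closure_pair (S.sq 0) (S.sq 1) hc.eq (hle ha) with rfl | rfl | rfl | rfl
  · exact one_mul 1
  · exact S.sq 0
  · exact S.sq 1
  · rw [hc.symm.mul_mul_mul_comm, S.sq, S.sq, one_mul]

end Seq

/-- A sequence whose first non-commuting distance is `d`. -/
structure Gap (H P Q : Subgroup G) (y k x : G) (s d : ℕ) : Prop where
  seq : Seq H P Q y k x s
  one_le : 1 ≤ d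
  lt : d < s
  near : ∀ e, 1 ≤ e → e < d → Commute (xs y k x 0) (xs y k x e)
  far : ¬ Commute (xs y k x 0) (xs y k x d)

/-- The commutator of two members of the sequence at the first non-commuting distance. -/
def cc (y k x : G) (d : ℕ) : G := xs y k x 0 * xs y k x d * xs y k x 0 * xs y k x d

namespace Gap

variable {H P Q : Subgroup G} {y k x : G} {s d : ℕ} (D : Gap H P Q y k x s d)
include D

theorem comm {i j : ℕ} (h1 : i < j + d) (h2 : j < i + d) : Commute (xs y k x i) (xs y k x j) := by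
  rcases lt_trichotomy i j with hij | rfl | hij
  · have := (D.seq.comm_shift (m := i) (i := 0) (j := j - i)).2 (D.near _ (by omega) (by omega))
    rwa [Nat.add_zero, Nat.add_sub_cancel' hij.le] at this
  · exact Commute.refl _
  · have := (D.seq.comm_shift (m := j) (i := 0) (j := i - j)).2 (D.near _ (by omega) (by omega))
    rw [Nat.add_zero, Nat.add_sub_cancel' hij.le] at this
    exact this.symm

theorem not_comm (i : ℕ) : ¬ Commute (xs y k x i) (xs y k x (i + d)) := fun h => by
  refine D.far ((D.seq.comm_shift (m := i)).1 ?_)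
  rwa [Nat.add_zero]

theorem shrink_bot {u l : ℕ} {a : G} (hl : l < s) (hl2 : l < 2 * d) (ha : a ∈ seg y k x u (l + 1))
    (hc : Commute a (xs y k x (u + d))) : a ∈ seg y k x (u + 1) l := by
  rcases D.seq.cases_bot hl ha with h | h
  · exact h
  · exfalso
    have h1 : Commute (xs y k x (u + d)) (xs y k x u * a) :=
      D.seq.comm_seg (fun j h1 h2 => D.comm (by omega) (by omega)) h
    have h2 := h1.mul_right (hc.symm.inv_right)
    rw [mul_inv_cancel_right] at h2
    exact D.not_comm u h2.symm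

theorem shrink_top {u l e : ℕ} {a : G} (hl : l < s) (hl2 : l < 2 * d) (he : e + d = u + l)
    (ha : a ∈ seg y k x u (l + 1)) (hc : Commute a (xs y k x e)) : a ∈ seg y k x u l := by
  rcases D.seq.cases_top hl ha with h | h
  · exact h
  · exfalso
    have h1 : Commute (xs y k x e) (a * xs y k x (u + l)) :=
      D.seq.comm_seg (fun j h1 h2 => D.comm (by omega) (by omega)) h
    have h2 := (hc.symm.inv_right).mul_right h1
    rw [inv_mul_cancel_left, ← he] at h2
    exact D.not_comm e h2

theorem shrink_bots {t : ℕ} : ∀ {u l : ℕ} {a : G}, l + t ≤ s → l + t ≤ 2 * d →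
    a ∈ seg y k x u (l + t) → (∀ i, u ≤ i → i < u + t → Commute a (xs y k x (i + d))) →
    a ∈ seg y k x (u + t) l := by
  induction t with
  | zero => intro u l a _ _ ha _; exact ha
  | succ t ih =>
    intro u l a h1 h2 ha hc
    have := D.shrink_bot (u := u) (l := l + t) (by omega) (by omega) ha (hc u le_rfl (by omega))
    rw [show u + (t + 1) = u + 1 + t by omega]
    exact ih (by omega) (by omega) this fun i h3 h4 => hc i (by omega) (by omega)

theorem shrink_tops {t : ℕ} : ∀ {u l : ℕ} {a : G}, l + t ≤ s → l + t ≤ 2 * d → d ≤ u + l →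
    a ∈ seg y k x u (l + t) → (∀ e, u + l ≤ e + d → e + d < u + l + t → Commute a (xs y k x e)) →
    a ∈ seg y k x u l := by
  induction t with
  | zero => intro u l a _ _ _ ha _; exact ha
  | succ t ih =>
    intro u l a h1 h2 h3 ha hc
    have := D.shrink_top (u := u) (l := l + t) (e := u + l + t - d) (by omega) (by omega) (by omega) ha
      (hc _ (by omega) (by omega))
    exact ih (by omega) (by omega) h3 this fun e h4 h5 => hc e h4 (by omega)

theorem cc_ne : cc y k x d ≠ 1 := fun h => by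
  refine D.far ?_
  have h2 : xs y k x 0 * xs y k x d = (xs y k x 0 * xs y k x d)⁻¹ := eq_inv_of_mul_eq_one_left (by
    rw [← h, cc]; group)
  rwa [mul_inv_rev, D.seq.inv_eq, D.seq.inv_eq] at h2

theorem two_le_d : 2 ≤ d := by
  by_contra h
  obtain rfl : d = 1 := by have := D.one_le; omega
  have := D.seq.comm_mem (i := 0) (l := 0) D.seq.two_le
  rw [D.seq.seg_zero] at this
  exact D.cc_ne this

theorem cc_mem : cc y k x d ∈ seg y k x 1 (d - 1) := by
  have h1 := D.one_le
  have h2 := D.lt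
  have := D.seq.comm_mem (i := 0) (l := d - 1) (by omega)
  rwa [show 0 + (d - 1) + 1 = d by omega] at this

/-- The commutator commutes with every member of the sequence up to the second gap. -/
theorem cc_comm {e : ℕ} (he : e < 2 * d) (hes : e < s) : Commute (cc y k x d) (xs y k x e) := by
  rcases Nat.lt_or_ge d e with hde | hed
  · set g := xs y k x e
    set a := xs y k x 0
    set b := xs y k x d
    have hw : a * g * a * g ∈ seg y k x 1 (e - 1) := by
      have := D.seq.comm_mem (i := 0) (l := e - 1) (by omega)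
      rwa [show 0 + (e - 1) + 1 = e by omega] at this
    set w := a * g * a * g with hwdef
    have hbw : Commute b w := D.seq.comm_seg (fun j h1 h2 => D.comm (by omega) (by omega)) hw
    have hgg : g⁻¹ = g := D.seq.inv_eq e
    have haa : a⁻¹ = a := D.seq.inv_eq 0
    have hga : g * a * g⁻¹ = a * w := by
      rw [hwdef, hgg, ← mul_assoc, ← mul_assoc, ← mul_assoc, D.seq.sq, one_mul]
    have hga' : g * a * g⁻¹ = w⁻¹ * a := by
      calc g * a * g⁻¹ = g * a⁻¹ * g⁻¹ := by rw [haa]
        _ = (g * a * g⁻¹)⁻¹ := by group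
        _ = w⁻¹ * a := by rw [hga, mul_inv_rev, haa]
    have hgb : g * b * g⁻¹ = b := by
      rw [(D.comm (i := e) (j := d) (by omega) (by omega)).eq, mul_inv_cancel_right]
    have key : g * cc y k x d * g⁻¹ = cc y k x d := by
      show g * (a * b * a * b) * g⁻¹ = a * b * a * b
      calc g * (a * b * a * b) * g⁻¹ = (g * a * g⁻¹) * (g * b * g⁻¹) * (g * a * g⁻¹) * (g * b * g⁻¹) := by group
        _ = (a * w) * b * (w⁻¹ * a) * b := by rw [hgb]; nth_rw 1 [hga]; rw [hga']
        _ = a * (w * b * w⁻¹) * a * b := by group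
        _ = a * b * a * b := by rw [hbw.symm.eq, mul_inv_cancel_right]
    exact (mul_inv_eq_iff_eq_mul.1 key).symm
  · rcases (show e = 0 ∨ e = d ∨ (1 ≤ e ∧ e < d) by omega) with rfl | rfl | ⟨h1, h2⟩
    · exact (D.seq.comm_seg (fun j h3 h4 => D.comm (by omega) (by omega)) D.cc_mem).symm
    · exact (D.seq.comm_seg (fun j h3 h4 => D.comm (by omega) (by omega)) D.cc_mem).symm
    · exact (D.seq.comm_seg (fun j h3 h4 => D.comm (by omega) (by omega)) D.cc_mem).symm

theorem lt_two_d : s < 2 * d := by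
  by_contra h
  have h1 := D.two_le_d
  have h2 := D.lt
  have := D.shrink_bots (t := d - 1) (u := 1) (l := 0) (a := cc y k x d) (by omega) (by omega)
    (by rw [Nat.zero_add]; exact D.cc_mem) (fun i hi hi' => D.cc_comm (by omega) (by omega))
  rw [D.seq.seg_zero] at this
  exact D.cc_ne this

theorem cc_mem' : cc y k x d ∈ seg y k x (s - d) (2 * d - s) := by
  have h1 := D.two_le_d
  have h2 := D.lt
  have h3 := D.lt_two_d
  have := D.shrink_bots (t := s - d - 1) (u := 1) (l := 2 * d - s) (a := cc y k x d) (by omega) (by omega)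
    (by rw [show 2 * d - s + (s - d - 1) = d - 1 by omega]; exact D.cc_mem)
    (fun i hi hi' => D.cc_comm (by omega) (by omega))
  rwa [show 1 + (s - d - 1) = s - d by omega] at this

/-- The translate of the commutator ending at the last member commutes with the earlier members. -/
theorem ccm_comm {e : ℕ} (he : e < s - 1 - d) :
    Commute (((sh y k) ^ (s - 1 - d) : MulAut G) (cc y k x d)) (xs y k x e) := by
  have h1 := D.two_le_d
  have h2 := D.lt
  have h3 := D.lt_two_d
  set m := s - 1 - d with hm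
  rw [cc, map_mul, map_mul, map_mul, D.seq.xs_add, D.seq.xs_add, Nat.add_zero]
  set a := xs y k x m
  set b := xs y k x (m + d) with hb
  set g := xs y k x e
  have hw : g * b * g * b ∈ seg y k x (e + 1) (s - 2 - e) := by
    have := D.seq.comm_mem (i := e) (l := s - 2 - e) (by omega)
    rwa [show e + (s - 2 - e) + 1 = m + d by omega] at this
  set w := g * b * g * b with hwdef
  have haw : Commute a w := D.seq.comm_seg (fun j h4 h5 => D.comm (by omega) (by omega)) hw
  have hgg : g⁻¹ = g := D.seq.inv_eq e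
  have hbb : b⁻¹ = b := D.seq.inv_eq _
  have hga : g * a * g⁻¹ = a := by
    rw [(D.comm (i := e) (j := m) (by omega) (by omega)).eq, mul_inv_cancel_right]
  have hgb : g * b * g⁻¹ = w * b := by
    rw [hwdef, hgg, mul_assoc (g * b * g), D.seq.sq, mul_one]
  have hgb' : g * b * g⁻¹ = b * w⁻¹ := by
    rw [hwdef]; simp [mul_assoc, hgg, hbb, D.seq.sq]
    rw [← mul_assoc b b, D.seq.sq, one_mul]
  have key : g * (a * b * a * b) * g⁻¹ = a * b * a * b := by
    calc g * (a * b * a * b) * g⁻¹ = (g * a * g⁻¹) * (g * b * g⁻¹) * (g * a * g⁻¹) * (g * b * g⁻¹) := by group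
      _ = a * (b * w⁻¹) * a * (w * b) := by rw [hga]; nth_rw 1 [hgb']; rw [hgb]
      _ = a * b * (w⁻¹ * a * w) * b := by group
      _ = a * b * a * b := by rw [mul_assoc w⁻¹, haw.eq, inv_mul_cancel_left]
  exact (mul_inv_eq_iff_eq_mul.1 key).symm

theorem two_s_le : 2 * s ≤ 3 * d ∧ cc y k x d ∈ seg y k x (s - d) (3 * d + 1 - 2 * s) := by
  have h1 := D.two_le_d
  have h2 := D.lt
  have h3 := D.lt_two_d
  set m := s - 1 - d with hm
  have hmem : ((sh y k) ^ m : MulAut G) (cc y k x d) ∈ seg y k x (m + (s - d)) (2 * d - s) :=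
    D.seq.shift_mem.2 D.cc_mem'
  have hle : 2 * s ≤ 3 * d := by
    by_contra h
    have := D.shrink_tops (t := 2 * d - s) (u := m + (s - d)) (l := 0) (by omega) (by omega) (by omega)
      (by rw [Nat.zero_add]; exact hmem) (fun e he he' => D.ccm_comm (by omega))
    rw [D.seq.seg_zero, mem_bot, map_eq_one_iff _ ((sh y k) ^ m : MulAut G).injective] at this
    exact D.cc_ne this
  refine ⟨hle, (D.seq.shift_mem (m := m)).1 ?_⟩
  exact D.shrink_tops (t := m) (by omega) (by omega) (by omega)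
    (by rw [show 3 * d + 1 - 2 * s + m = 2 * d - s by omega]; exact hmem)
    (fun e he he' => D.ccm_comm (by omega))

/-- The centre of `P`. -/
theorem center_le {z : G} (hz : z ∈ P) (hc : ∀ a ∈ P, a * z = z * a) :
    z ∈ seg y k x (s - d) (2 * d - s) := by
  have h2 := D.lt
  have h3 := D.lt_two_d
  have hcx : ∀ i, i < s → Commute z (xs y k x i) := fun i hi => (hc _ (D.seq.mem_P hi)).symm
  have h4 := D.shrink_bots (t := s - d) (u := 0) (l := d) (a := z) (by omega) (by omega)
    (by rw [show d + (s - d) = s by omega, D.seq.eq_P]; exact hz) (fun i _ hi => hcx _ (by omega))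
  rw [Nat.zero_add] at h4
  exact D.shrink_tops (t := s - d) (by omega) (by omega) (by omega)
    (by rw [show 2 * d - s + (s - d) = d by omega]; exact h4) (fun e _ he => hcx _ (by omega))

theorem gap_le : 2 * d ≤ s + 2 := by
  have h2 := D.lt
  have h3 := D.lt_two_d
  set C := seg y k x (s - d + 1) (2 * d - s - 1) with hC
  have hCcen : ∀ a ∈ C, ∀ i ≤ s, Commute a (xs y k x i) := fun a ha i hi =>
    (D.seq.comm_seg (fun j h4 h5 => D.comm (by omega) (by omega)) ha).symm
  have hCP : C ≤ P := (D.seq.seg_le (Nat.zero_le _) (by omega)).trans D.seq.eq_P.le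
  have hCH : ∀ a ∈ C, ∀ g ∈ H, g * a = a * g := fun a ha => D.seq.central (hCcen a ha)
  have hconjy : ∀ {a : G}, a ∈ C → y * (y * a * y⁻¹) * y⁻¹ = a := by
    intro a ha
    obtain ⟨p, hp, b, hb, hpb⟩ := D.seq.top.y_sq
    have h4 : b * a * b⁻¹ = a := by rw [← mem_centralizer_iff.1 hb a (hCP ha), mul_inv_cancel_right]
    have h5 : p * a * p⁻¹ = a := by rw [hCH a ha p (D.seq.top.P_le hp), mul_inv_cancel_right]
    calc y * (y * a * y⁻¹) * y⁻¹ = (p * b) * a * (p * b)⁻¹ := by rw [hpb]; group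
      _ = p * (b * a * b⁻¹) * p⁻¹ := by group
      _ = a := by rw [h4, h5]
  have hbot : ∀ a ∈ C, y * a * y⁻¹ ∈ C → a = 1 := by
    intro a ha hya
    have hX : C ⊓ C.comap (MulAut.conj y).toMonoidHom = ⊥ := by
      refine D.seq.top.free _ (inf_le_left.trans hCP) (fun g hg b hb => ?_) (fun b hb => ⟨hb.2, ?_⟩)
      · rwa [hCH b hb.1 g hg, mul_inv_cancel_right]
      · show y * (y * b * y⁻¹) * y⁻¹ ∈ C
        rw [hconjy hb.1]; exact hb.1
    exact (mem_bot.1 (hX ▸ (⟨ha, hya⟩ : a ∈ C ⊓ C.comap (MulAut.conj y).toMonoidHom)))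
  have hZ : ∀ a ∈ C, ∀ b ∈ C, a * (y * b * y⁻¹) ∈ seg y k x (s - d) (2 * d - s) := by
    intro a ha b hb
    refine mul_mem (D.seq.seg_le (by omega) (by omega) ha) (D.center_le (D.seq.top.conj_P.2 (hCP hb)) ?_)
    intro p hp
    have hp' : y⁻¹ * p * y ∈ P := D.seq.top.conj_P.1 (by rwa [show y * (y⁻¹ * p * y) * y⁻¹ = p by group])
    calc p * (y * b * y⁻¹) = y * ((y⁻¹ * p * y) * b) * y⁻¹ := by group
      _ = y * (b * (y⁻¹ * p * y)) * y⁻¹ := by rw [hCH b hb _ (D.seq.top.P_le hp')]
      _ = y * b * y⁻¹ * p := by group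
  let f : C × C → seg y k x (s - d) (2 * d - s) := fun p => ⟨_, hZ _ p.1.2 _ p.2.2⟩
  have hf : Function.Injective f := by
    rintro ⟨⟨a, ha⟩, ⟨b, hb⟩⟩ ⟨⟨a', ha'⟩, ⟨b', hb'⟩⟩ he
    have he' : a * (y * b * y⁻¹) = a' * (y * b' * y⁻¹) := congrArg Subtype.val he
    have h4 : y * (b * b'⁻¹) * y⁻¹ = a⁻¹ * a' := by
      calc y * (b * b'⁻¹) * y⁻¹ = a⁻¹ * (a * (y * b * y⁻¹)) * (y * b' * y⁻¹)⁻¹ := by group
        _ = a⁻¹ * a' := by rw [he']; group
    have h5 := hbot _ (mul_mem hb (inv_mem hb')) (h4 ▸ mul_mem (inv_mem ha) ha')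
    rw [mul_inv_eq_one] at h5
    subst h5
    obtain rfl : a = a' := mul_right_cancel he'
    rfl
  have h4 := Nat.card_le_card_of_injective f hf
  rw [Nat.card_prod, hC, D.seq.card_seg (by omega), D.seq.card_seg (by omega), ← pow_add] at h4
  have := (Nat.pow_le_pow_iff_right (le_refl 2)).1 h4
  omega

theorem cases_sd : (s = 3 ∧ d = 2) ∨ (s = 4 ∧ d = 3) ∨ (s = 6 ∧ d = 4) := by
  have := D.two_le_d
  have := D.lt
  have := D.lt_two_d
  have := D.gap_le
  have := D.two_s_le.1
  omega

end Gap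

end CfsgLib.Pairs.DihedralTop
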