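import Cfsg.Agent.Lib.Pairs.DihedralTop.Bound

/-!
# The three possible chains

Length two gives an elementary abelian `P`; lengths three and four give a four-group in `Q`,
normal in `H`, on which two involutions of `H` induce two different transvections.
-/

set_option autoImplicit false
set_option linter.all false

namespace CfsgLib.Pairs.DihedralTop

open Subgroup

universe u

variable {G : Type u} [Group G] [Finite G]

/-- A normal four-group inside `Q` moved by two transvections. -/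
structure Four (H P Q : Subgroup G) (u v a b : G) : Prop where
  u_sq : u * u = 1
  v_sq : v * v = 1
  uv : u * v = v * u
  u_ne : u ≠ 1
  v_ne : v ≠ 1
  ne : u ≠ v
  u_mem : u ∈ Q
  v_mem : v ∈ Q
  normal : ∀ h ∈ H, ∀ t ∈ closure {u, v}, h * t * h⁻¹ ∈ closure {u, v}
  fixed : ∀ q ∈ Q, ∀ t ∈ closure {u, v}, Commute q t
  a_mem : a ∈ P
  a_sq : a * a = 1
  b_mem : b ∈ H
  au : a * u * a⁻¹ = u
  av : a * v * a⁻¹ = u * v
  bv : b * v * b⁻¹ = v
  bu : b * u * b⁻¹ = u * v

theorem mem_bot_pair {a : G} (ha : a * a = 1) {b : G} (hb : b ∈ closure ({a} : Set G)) :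
    b = 1 ∨ b = a := by
  induction hb using closure_induction_right with
  | one => exact Or.inl rfl
  | mul_right b hb c hc ih =>
    cases hc
    rcases ih with rfl | rfl
    · exact Or.inr (one_mul _)
    · exact Or.inl ha
  | mul_inv_cancel b hb c hc ih =>
    cases hc
    rw [inv_eq_of_mul_eq_one_right ha]
    rcases ih with rfl | rfl
    · exact Or.inr (one_mul _)
    · exact Or.inl ha

namespace Seq

variable {H P Q : Subgroup G} {y k x : G} {s : ℕ} (S : Seq H P Q y k x s)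
include S

theorem seg_one {i : ℕ} {a : G} (ha : a ∈ seg y k x i 1) : a = 1 ∨ a = xs y k x i := by
  refine mem_bot_pair (S.sq i) ?_
  have hle : seg y k x i 1 ≤ closure {xs y k x i} := by
    refine (closure_le _).2 ?_
    rintro _ ⟨j, h1, h2, rfl⟩
    rw [show j = i by omega]
    exact subset_closure rfl
  exact hle ha

theorem seg_two {i : ℕ} : seg y k x i 2 = closure {xs y k x i, xs y k x (i + 1)} := by
  refine le_antisymm ((closure_le _).2 ?_) ((closure_le _).2 ?_)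
  · rintro _ ⟨j, h1, h2, rfl⟩
    rcases (show j = i ∨ j = i + 1 by omega) with rfl | rfl
    · exact subset_closure (Or.inl rfl)
    · exact subset_closure (Or.inr rfl)
  · rintro _ (rfl | rfl)
    · exact S.mem_seg le_rfl (by omega)
    · exact S.mem_seg (Nat.le_succ i) (by omega)

theorem mid_norm {i : ℕ} (hi : i < s) {a : G} (ha : a ∈ seg y k x 1 (s - 2)) :
    xs y k x i * a * (xs y k x i)⁻¹ ∈ seg y k x 1 (s - 2) := by
  have hs := S.two_le
  obtain ⟨hl, hl'⟩ := S.two_half (i := 0) (l := s - 2 + 1) (by omega) le_rfl (Nat.le_succ 0)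
  obtain ⟨hr, hr'⟩ := S.two_half (i := 0) (l := s - 2 + 1) (i' := 1) (by omega) (Nat.le_succ 0) le_rfl
  have hx : xs y k x i ∈ seg y k x 0 (s - 2 + 1 + 1) := S.mem_seg (Nat.zero_le i) (by omega)
  have ha0 : a ∈ seg y k x 0 (s - 2 + 1 + 1) := S.seg_le (Nat.zero_le 1) (by omega) ha
  exact S.inter (i := 0) (by omega) ((conj_mem_iff hl hl' hx ha0).2 (S.seg_le (Nat.zero_le 1) (by omega) ha))
    ((conj_mem_iff hr hr' hx ha0).2 (S.seg_le le_rfl (by omega) ha))

end Seq

namespace Gap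

variable {H P Q : Subgroup G} {y k x : G} {s d : ℕ} (D : Gap H P Q y k x s d)
include D

theorem seg_comm {i l i' l' : ℕ} (h1 : i + l ≤ i' + d) (h2 : i' + l' ≤ i + d) {a b : G}
    (ha : a ∈ seg y k x i l) (hb : b ∈ seg y k x i' l') : Commute a b :=
  D.seq.comm_seg (fun j h3 h4 => (D.seq.comm_seg (fun j' h5 h6 => D.comm (by omega) (by omega)) ha).symm) hb

theorem seg_sq {i l : ℕ} (h : l ≤ d) {a : G} (ha : a ∈ seg y k x i l) : a * a = 1 := by
  induction l generalizing a with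
  | zero =>
    rw [D.seq.seg_zero, mem_bot] at ha
    rw [ha, one_mul]
  | succ l ih =>
    have := D.lt
    rcases D.seq.cases_top (by omega) ha with h1 | h1
    · exact ih (by omega) h1
    · have hc : Commute (a * xs y k x (i + l)) (xs y k x (i + l)) :=
        (D.seq.comm_seg (fun j h2 h3 => D.comm (by omega) (by omega)) h1).symm
      have h2 : a = a * xs y k x (i + l) * xs y k x (i + l) := by rw [mul_assoc, D.seq.sq, mul_one]
      rw [h2, hc.symm.mul_mul_mul_comm, ih (by omega) h1, D.seq.sq, one_mul]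

theorem cc_shift (m : ℕ) :
    ((sh y k) ^ m : MulAut G) (cc y k x d) =
      xs y k x m * xs y k x (m + d) * xs y k x m * xs y k x (m + d) := by
  rw [cc, map_mul, map_mul, map_mul, D.seq.xs_add, D.seq.xs_add, Nat.add_zero]

/-- The conjugate of a member by the member a gap further. -/
theorem conj_low (m : ℕ) : xs y k x (m + d) * xs y k x m * (xs y k x (m + d))⁻¹ =
    xs y k x m * ((sh y k) ^ m : MulAut G) (cc y k x d) := by
  rw [D.cc_shift, D.seq.inv_eq]
  simp only [← mul_assoc]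
  rw [D.seq.sq, one_mul]

theorem conj_high (m : ℕ) : xs y k x m * xs y k x (m + d) * (xs y k x m)⁻¹ =
    ((sh y k) ^ m : MulAut G) (cc y k x d) * xs y k x (m + d) := by
  rw [D.cc_shift, D.seq.inv_eq, mul_assoc _ (xs y k x (m + d)) (xs y k x (m + d)), D.seq.sq, mul_one]

end Gap

theorem case_three {H P Q : Subgroup G} {y k x : G} (D : Gap H P Q y k x 3 2) :
    ∃ u v a b, Four H P Q u v a b := by
  obtain ⟨-, hc⟩ := D.two_s_le
  norm_num at hc
  have hcc : cc y k x 2 = xs y k x 1 := (D.seq.seg_one hc).resolve_left D.cc_ne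
  have hQ : seg y k x 1 2 = Q := D.seq.eq_Q
  have h12 := D.seq.seg_two (i := 1)
  rw [hQ] at h12
  have hcm : Commute (xs y k x 1) (xs y k x 2) := D.comm (by omega) (by omega)
  refine ⟨xs y k x 1, xs y k x 2, xs y k x 0, xs y k x 3, D.seq.sq 1, D.seq.sq 2, hcm.eq, D.seq.ne_one,
    D.seq.ne_one, ?_, hQ ▸ D.seq.mem_seg le_rfl (by omega), hQ ▸ D.seq.mem_seg (by omega) (by omega),
    ?_, ?_, D.seq.mem_P (by omega), D.seq.sq 0, D.seq.mem_H le_rfl, ?_, ?_, ?_, ?_⟩
  · intro h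
    have := D.seq.not_top (i := 1) (l := 1) (by omega)
    rw [show 1 + 1 = 2 from rfl, ← h] at this
    exact this (D.seq.mem_seg le_rfl (by omega))
  · rw [← h12]; exact D.seq.top.Q_normal
  · rw [← h12]
    intro q hq t ht
    rw [← hQ] at hq ht
    exact D.seg_comm (by omega) (by omega) hq ht
  · rw [(D.comm (i := 0) (j := 1) (by omega) (by omega)).eq, mul_inv_cancel_right]
  · have := D.conj_high 0
    rw [pow_zero, MulAut.one_apply, hcc, Nat.zero_add] at this
    exact this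
  · rw [(D.comm (i := 3) (j := 2) (by omega) (by omega)).eq, mul_inv_cancel_right]
  · have := D.conj_low 1
    rw [hcc, D.seq.xs_add] at this
    exact this

theorem case_four {H P Q : Subgroup G} {y k x : G} (D : Gap H P Q y k x 4 3) :
    ∃ u v a b z, Four H P Q u v a b ∧ z ∈ Q ∧ z * z = 1 ∧ z ∉ closure {u, v} ∧ ∀ h ∈ H, h * z = z * h := by
  obtain ⟨-, hc⟩ := D.two_s_le
  norm_num at hc
  set x0 := xs y k x 0 with hx0
  set x1 := xs y k x 1 with hx1
  set x2 := xs y k x 2 with hx2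
  set x3 := xs y k x 3 with hx3
  set x4 := xs y k x 4 with hx4
  have hQ : seg y k x 1 3 = Q := D.seq.eq_Q
  have hz : ∀ h ∈ H, h * x2 = x2 * h := D.seq.central fun i hi => D.comm (by omega) (by omega)
  have hC : ∀ a ∈ seg y k x 2 1, ∀ h ∈ H, h * a = a * h := by
    intro a ha h hh
    rcases D.seq.seg_one ha with rfl | rfl
    · rw [mul_one, one_mul]
    · exact hz h hh
  have e12 : Commute x1 x2 := D.comm (by omega) (by omega)
  have e13 : Commute x1 x3 := D.comm (by omega) (by omega)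
  have e23 : Commute x2 x3 := D.comm (by omega) (by omega)
  have hQab : ∀ a ∈ Q, ∀ b ∈ Q, Commute a b := fun a ha b hb =>
    D.seg_comm (by omega) (by omega) (hQ ▸ ha) (hQ ▸ hb)
  have hx0H : x0 ∈ H := D.seq.mem_H (by omega)
  have hx4H : x4 ∈ H := D.seq.mem_H le_rfl
  -- `k⁻¹ x₄ k` is in `x₀ Q`
  have htw : ∀ q ∈ Q, k⁻¹ * (x4 * (k * q * k⁻¹) * x4⁻¹) * k = x0 * q * x0⁻¹ := by
    intro q hq
    have h4 : x4 ∈ seg y k x 1 4 := D.seq.mem_seg (by omega) (by omega)
    rw [D.seq.eq_conj] at h4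
    obtain ⟨p, hp, hpe⟩ := h4
    have hpe' : k * p * k⁻¹ = x4 := hpe
    have hpQ : p ∉ seg y k x 1 3 := fun h => by
      have h5 : x4 ∈ seg y k x 1 3 := by
        rw [← hpe', hQ]; exact D.seq.top.Q_normal k D.seq.top.k_mem p (hQ ▸ h)
      exact D.seq.not_top (i := 1) (l := 3) (by omega) h5
    have hp' : p ∈ seg y k x 0 (3 + 1) := D.seq.eq_P.symm ▸ hp
    have h5 : x0 * p ∈ Q := hQ ▸ (D.seq.cases_bot (by omega) hp').resolve_left hpQ
    rw [← hpe', show k⁻¹ * (k * p * k⁻¹ * (k * q * k⁻¹) * (k * p * k⁻¹)⁻¹) * k = p * q * p⁻¹ by group,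
      show p * q * p⁻¹ = x0⁻¹ * ((x0 * p) * q * (x0 * p)⁻¹) * x0 by group, (hQab _ h5 _ hq).eq,
      mul_inv_cancel_right, hx0, D.seq.inv_eq]
  let triv : G → Prop := fun g => ∀ q ∈ Q, g * q * g⁻¹ * q⁻¹ ∈ seg y k x 2 1
  have hgen : ∀ g ∈ H, (∀ j, 1 ≤ j → j ≤ 3 → g * xs y k x j * g⁻¹ * (xs y k x j)⁻¹ ∈ seg y k x 2 1) →
      triv g := by
    intro g hg h q hq
    have key : ∀ a ∈ seg y k x 1 3, g * a * g⁻¹ * a⁻¹ ∈ seg y k x 2 1 := by
      intro a ha
      induction ha using closure_induction with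
      | mem a ha => obtain ⟨j, h1, h2, rfl⟩ := ha; exact h j h1 (by omega)
      | one => simp
      | mul a b ha' hb ihA ihB =>
        have hab : g * (a * b) * g⁻¹ * (a * b)⁻¹ = (g * a * g⁻¹ * a⁻¹) * (a * (g * b * g⁻¹ * b⁻¹) * a⁻¹) := by group
        rw [hab, hC _ ihB a (D.seq.top.P_le (D.seq.top.Q_le (hQ ▸ ha'))), mul_inv_cancel_right]
        exact mul_mem ihA ihB
      | inv a ha' ihA =>
        have hab : g * a⁻¹ * g⁻¹ * a⁻¹⁻¹ = a⁻¹ * (g * a * g⁻¹ * a⁻¹)⁻¹ * a := by group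
        rw [hab, hC _ (inv_mem ihA) a⁻¹ (H.inv_mem (D.seq.top.P_le (D.seq.top.Q_le (hQ ▸ ha')))),
          inv_mul_cancel_right]
        exact inv_mem ihA
    exact key q (hQ ▸ hq)
  have htriv : triv x4 ↔ triv x0 := by
    constructor <;> intro h q hq
    · have hq' := D.seq.top.Q_normal k D.seq.top.k_mem q hq
      have h1 := h _ hq'
      have e : x0 * q * x0⁻¹ * q⁻¹ = k⁻¹ * (x4 * (k * q * k⁻¹) * x4⁻¹ * (k * q * k⁻¹)⁻¹) * k := by
        rw [← htw q hq]; group
      rw [e, hC _ h1 k⁻¹ (H.inv_mem D.seq.top.k_mem), inv_mul_cancel_right]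
      exact h1
    · have hq' := D.seq.top.Q_normal k⁻¹ (H.inv_mem D.seq.top.k_mem) q hq
      rw [inv_inv] at hq'
      have h1 := h _ hq'
      have e : x4 * q * x4⁻¹ * q⁻¹ = k * (x0 * (k⁻¹ * q * k) * x0⁻¹ * (k⁻¹ * q * k)⁻¹) * k⁻¹ := by
        rw [← htw _ hq']; group
      rw [e, hC _ h1 k D.seq.top.k_mem, mul_inv_cancel_right]
      exact h1
  have c03 : x0 * x3 * x0⁻¹ = cc y k x 3 * x3 := by
    have := D.conj_high 0
    rwa [pow_zero, MulAut.one_apply, Nat.zero_add] at this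
  have c14 : x4 * x1 * x4⁻¹ = x1 * ((sh y k) ^ 1 : MulAut G) (cc y k x 3) := D.conj_low 1
  have htrivial : ∀ i j, i < j + 3 → j < i + 3 →
      xs y k x i * xs y k x j * (xs y k x i)⁻¹ * (xs y k x j)⁻¹ ∈ seg y k x 2 1 := by
    intro i j h1 h2
    rw [(D.comm h1 h2).eq, mul_inv_cancel_right, mul_inv_cancel]
    exact one_mem _
  have hcc : cc y k x 3 = x1 * x2 := by
    have hc' : cc y k x 3 ∈ closure {x1, x2} := by
      rw [← D.seq.seg_two (i := 1)]; exact hc
    rcases mem_closure_pair (D.seq.sq 1) (D.seq.sq 2) e12.eq hc' with h | h | h | h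
    · exact absurd h D.cc_ne
    · exfalso
      have h4 : triv x4 := hgen x4 hx4H fun j h1 h2 => by
        rcases (show j = 1 ∨ (2 ≤ j) by omega) with rfl | h3
        · rw [c14, h, hx1, D.seq.xs_add, e12.eq, hx1, hx2, mul_inv_cancel_right]
          exact D.seq.mem_seg le_rfl (by omega)
        · exact htrivial 4 j (by omega) (by omega)
      have h5 := htriv.1 h4 x3 (hQ ▸ D.seq.mem_seg (by omega) (by omega))
      rw [c03, mul_inv_cancel_right, h] at h5
      exact D.seq.not_bot (i := 1) (l := 1) (by omega) h5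
    · exfalso
      have h4 : triv x0 := hgen x0 hx0H fun j h1 h2 => by
        rcases (show j = 3 ∨ (j ≤ 2) by omega) with rfl | h3
        · rw [c03, h, mul_inv_cancel_right]
          exact D.seq.mem_seg le_rfl (by omega)
        · exact htrivial 0 j (by omega) (by omega)
      have h5 := htriv.2 h4 x1 (hQ ▸ D.seq.mem_seg (by omega) (by omega))
      rw [c14, h, D.seq.xs_add, show (1 + 2) = 3 from rfl, ← hx3, e13.eq, mul_inv_cancel_right] at h5
      exact D.seq.not_top (i := 2) (l := 1) (by omega) h5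
    · exact h
  rw [hcc] at c03
  rw [hcc, map_mul, hx1, hx2, D.seq.xs_add, D.seq.xs_add, show (1 + 1) = 2 from rfl,
    show (1 + 2) = 3 from rfl, ← hx1, ← hx2, ← hx3] at c14
  have s1 : x1 * x1 = 1 := D.seq.sq 1
  have s2 : x2 * x2 = 1 := D.seq.sq 2
  have s3 : x3 * x3 = 1 := D.seq.sq 3
  have huv : x1 * x2 * (x2 * x3) = x1 * x3 := by rw [mul_assoc, ← mul_assoc x2, s2, one_mul]
  have hu : x1 * x2 ∈ Q := hQ ▸ mul_mem (D.seq.mem_seg le_rfl (by omega)) (D.seq.mem_seg (by omega) (by omega))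
  have hv : x2 * x3 ∈ Q := hQ ▸ mul_mem (D.seq.mem_seg (by omega) (by omega)) (D.seq.mem_seg (by omega) (by omega))
  have hu2 : x1 * x2 * (x1 * x2) = 1 := by rw [e12.symm.mul_mul_mul_comm, s1, s2, one_mul]
  have hv2 : x2 * x3 * (x2 * x3) = 1 := by rw [e23.symm.mul_mul_mul_comm, s2, s3, one_mul]
  have hn3 : x3 ∉ seg y k x 1 2 := D.seq.not_top (i := 1) (l := 2) (by omega)
  have m1 : x1 ∈ seg y k x 1 2 := D.seq.mem_seg le_rfl (by omega)
  have m2 : x2 ∈ seg y k x 1 2 := D.seq.mem_seg (by omega) (by omega)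
  have au : x0 * (x1 * x2) * x0⁻¹ = x1 * x2 := by
    have := (D.comm (i := 0) (j := 1) (by omega) (by omega)).mul_right (D.comm (i := 0) (j := 2) (by omega) (by omega))
    rw [this.eq, mul_inv_cancel_right]
  have av : x0 * (x2 * x3) * x0⁻¹ = x1 * x2 * (x2 * x3) := by
    have h0 : x0 * x2 * x0⁻¹ = x2 := by
      rw [(D.comm (i := 0) (j := 2) (by omega) (by omega)).eq, mul_inv_cancel_right]
    calc x0 * (x2 * x3) * x0⁻¹ = (x0 * x2 * x0⁻¹) * (x0 * x3 * x0⁻¹) := by group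
      _ = x2 * (x1 * x2 * x3) := by rw [h0, c03]
      _ = _ := by rw [huv, e12.eq, ← mul_assoc, ← mul_assoc, s2, one_mul]
  have bv : x4 * (x2 * x3) * x4⁻¹ = x2 * x3 := by
    have := (D.comm (i := 4) (j := 2) (by omega) (by omega)).mul_right (D.comm (i := 4) (j := 3) (by omega) (by omega))
    rw [this.eq, mul_inv_cancel_right]
  have bu : x4 * (x1 * x2) * x4⁻¹ = x1 * x2 * (x2 * x3) := by
    have h0 : x4 * x2 * x4⁻¹ = x2 := by
      rw [(D.comm (i := 4) (j := 2) (by omega) (by omega)).eq, mul_inv_cancel_right]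
    calc x4 * (x1 * x2) * x4⁻¹ = (x4 * x1 * x4⁻¹) * (x4 * x2 * x4⁻¹) := by group
      _ = x1 * (x2 * x3) * x2 := by rw [h0, c14]
      _ = _ := by rw [huv, e23.eq, ← mul_assoc, mul_assoc _ x2 x2, s2, mul_one]
  have hT : closure {x1 * x2, x2 * x3} ≤ Q := (closure_le _).2 (by rintro _ (rfl | rfl) <;> assumption)
  have hnormal : ∀ h ∈ H, ∀ t ∈ closure {x1 * x2, x2 * x3}, h * t * h⁻¹ ∈ closure {x1 * x2, x2 * x3} := by
    refine D.seq.normal_of fun i hi t ht => ?_
    have hU : x1 * x2 ∈ closure {x1 * x2, x2 * x3} := subset_closure (Or.inl rfl)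
    have hV : x2 * x3 ∈ closure {x1 * x2, x2 * x3} := subset_closure (Or.inr rfl)
    rcases (show i = 0 ∨ i = 4 ∨ (1 ≤ i ∧ i ≤ 3) by omega) with rfl | rfl | ⟨h1, h2⟩
    · refine (closure_le (K := (closure {x1 * x2, x2 * x3}).comap (MulAut.conj x0).toMonoidHom)).2 ?_ ht
      rintro _ (rfl | rfl)
      · show x0 * (x1 * x2) * x0⁻¹ ∈ closure {x1 * x2, x2 * x3}; rw [au]; exact hU
      · show x0 * (x2 * x3) * x0⁻¹ ∈ closure {x1 * x2, x2 * x3}; rw [av]; exact mul_mem hU hV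
    · refine (closure_le (K := (closure {x1 * x2, x2 * x3}).comap (MulAut.conj x4).toMonoidHom)).2 ?_ ht
      rintro _ (rfl | rfl)
      · show x4 * (x1 * x2) * x4⁻¹ ∈ closure {x1 * x2, x2 * x3}; rw [bu]; exact mul_mem hU hV
      · show x4 * (x2 * x3) * x4⁻¹ ∈ closure {x1 * x2, x2 * x3}; rw [bv]; exact hV
    · rwa [(hQab _ (hQ ▸ D.seq.mem_seg h1 (by omega)) _ (hT ht)).eq, mul_inv_cancel_right]
  refine ⟨x1 * x2, x2 * x3, x0, x4, x2, ⟨hu2, hv2, (hQab _ hu _ hv).eq, ?_, ?_, ?_, hu, hv, hnormal,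
    fun q hq t ht => hQab q hq t (hT ht), D.seq.mem_P (by omega), D.seq.sq 0, hx4H, au, av, bv, bu⟩,
    hQ ▸ D.seq.mem_seg (by omega) (by omega), s2, ?_, hz⟩
  · intro h
    exact D.cc_ne (hcc.trans h)
  · intro h
    apply hn3
    rw [← one_mul x3, ← s2, mul_assoc, h, mul_one]
    exact m2
  · intro h
    apply hn3
    rw [← one_mul x3, ← s2, mul_assoc, ← h]
    exact mul_mem m2 (mul_mem m1 m2)
  · intro h
    apply hn3
    rcases mem_closure_pair hu2 hv2 (hQab _ hu _ hv).eq h with h | h | h | h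
    · exact absurd h D.seq.ne_one
    · exact absurd (mul_eq_right.1 h.symm) D.seq.ne_one
    · exact absurd (mul_eq_left.1 h.symm) D.seq.ne_one
    · rw [huv] at h
      rw [← one_mul x3, ← s1, mul_assoc, ← h]
      exact mul_mem m1 m2

theorem not_six {H P Q : Subgroup G} {y k x : G} (D : Gap H P Q y k x 6 4) : False := by
  obtain ⟨-, hc⟩ := D.two_s_le
  norm_num at hc
  have hcc : cc y k x 4 = xs y k x 2 := (D.seq.seg_one hc).resolve_left D.cc_ne
  set e := xs y k x 0 * xs y k x 5 * xs y k x 0 * xs y k x 5 with he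
  have he4 : e ∈ seg y k x 1 4 := D.seq.comm_mem (i := 0) (l := 4) (by omega)
  have hee : e⁻¹ = e := inv_eq_of_mul_eq_one_right (D.seg_sq le_rfl he4)
  have hec : Commute e (xs y k x 0) := by
    have h1 : xs y k x 0 * e * (xs y k x 0)⁻¹ = e⁻¹ := by
      simp only [he, mul_inv_rev, D.seq.inv_eq, ← mul_assoc, D.seq.sq, one_mul]
    rw [hee] at h1
    exact (mul_inv_eq_iff_eq_mul.1 h1).symm
  have he3 : e ∈ seg y k x 1 3 := D.shrink_top (e := 0) (by omega) (by omega) (by omega) he4 hec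
  have h61 : xs y k x 6 * xs y k x 1 * (xs y k x 6)⁻¹ = xs y k x 1 * ((sh y k) ^ 1 : MulAut G) e := by
    have e0 : ((sh y k) ^ 1 : MulAut G) e = xs y k x 1 * xs y k x 6 * xs y k x 1 * xs y k x 6 := by
      simp only [he, map_mul, D.seq.xs_add]
    rw [e0, D.seq.inv_eq]
    simp only [← mul_assoc]
    rw [D.seq.sq, one_mul]
  have := D.seq.mid_bot fun i hi a ha => ?_
  · omega
  rcases Nat.lt_or_ge i 6 with h | h
  · exact D.seq.mid_norm h ha
  obtain rfl : i = 6 := by omega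
  refine (closure_le (K := (seg y k x 1 4).comap (MulAut.conj (xs y k x 6)).toMonoidHom)).2 ?_ ha
  rintro _ ⟨j, h1, h2, rfl⟩
  show xs y k x 6 * xs y k x j * (xs y k x 6)⁻¹ ∈ seg y k x 1 4
  rcases (show j = 1 ∨ j = 2 ∨ 3 ≤ j by omega) with rfl | rfl | h3
  · rw [h61]
    exact mul_mem (D.seq.mem_seg le_rfl (by omega)) (D.seq.seg_le (by omega) (by omega) (D.seq.shift_mem.2 he3))
  · have := D.conj_low 2
    rw [hcc, D.seq.xs_add] at this
    rw [this]
    exact mul_mem (D.seq.mem_seg (by omega) (by omega)) (D.seq.mem_seg (by omega) (by omega))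
  · rw [(D.comm (i := 6) (j := j) (by omega) (by omega)).eq, mul_inv_cancel_right]
    exact D.seq.mem_seg h1 (by omega)

/-- The possible shapes. -/
theorem Top.shapes {H P Q : Subgroup G} {y k : G} (T : Top H P Q y k) :
    (Nat.card P = 4 ∧ ∀ a ∈ P, a * a = 1) ∨
    (Nat.card P = 8 ∧ ∃ u v a b, Four H P Q u v a b) ∨
    (Nat.card P = 16 ∧ ∃ u v a b z, Four H P Q u v a b ∧ z ∈ Q ∧ z * z = 1 ∧ z ∉ closure {u, v} ∧
      ∀ h ∈ H, h * z = z * h) := by
  classical
  obtain ⟨s, x, S, hP⟩ := exists_Seq T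
  by_cases hall : ∀ e, 1 ≤ e → e < s → Commute (xs y k x 0) (xs y k x e)
  · obtain ⟨rfl, h⟩ := S.two_case hall
    exact Or.inl ⟨hP, h⟩
  push Not at hall
  obtain ⟨h1, h2, h3⟩ := Nat.find_spec hall
  have D : Gap H P Q y k x s (Nat.find hall) := ⟨S, h1, h2, fun e he he' => by
    by_contra hne
    exact Nat.find_min hall he' ⟨he, by omega, hne⟩, h3⟩
  rcases D.cases_sd with ⟨rfl, hd⟩ | ⟨rfl, hd⟩ | ⟨rfl, hd⟩
  · rw [hd] at D; exact Or.inr (Or.inl ⟨hP, case_three D⟩)
  · rw [hd] at D; exact Or.inr (Or.inr ⟨hP, case_four D⟩)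
  · rw [hd] at D; exact (not_six D).elim

end CfsgLib.Pairs.DihedralTop
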