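import Mathlib

/-!
# The Sims chain of a 2-group with two conjugate maximal subgroups

`P` is a 2-group in a subgroup `H`, `Q` is normal in `H` of index two in `P`, `y` normalises `P`
and no nontrivial `y`-invariant subgroup of `P` is normal in `H`.  Conjugation by `k * y` produces
a sequence of involutions `x₀, x₁, …` such that every block of consecutive ones generates a group
of the largest possible order.
-/

set_option autoImplicit false
set_option linter.all false

namespace CfsgLib.Pairs.DihedralTop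

open Subgroup

universe u

variable {G : Type u} [Group G] [Finite G]

/-- A subgroup of half the order has index two. -/
theorem mul_mem_iff {U W : Subgroup G} (hUW : U ≤ W) (hc : Nat.card W = 2 * Nat.card U) {a b : G}
    (ha : a ∈ W) (hb : b ∈ W) : a * b ∈ U ↔ (a ∈ U ↔ b ∈ U) := by
  have hi : (U.subgroupOf W).index = 2 := by
    have h := (U.subgroupOf W).index_mul_card
    rw [Nat.card_congr (subgroupOfEquivOfLe hUW).toEquiv, hc] at h
    exact Nat.eq_of_mul_eq_mul_right Nat.card_pos h
  exact Subgroup.mul_mem_iff_of_index_two hi (a := ⟨a, ha⟩) (b := ⟨b, hb⟩)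

theorem conj_mem_iff {U W : Subgroup G} (hUW : U ≤ W) (hc : Nat.card W = 2 * Nat.card U) {a b : G}
    (ha : a ∈ W) (hb : b ∈ W) : a * b * a⁻¹ ∈ U ↔ b ∈ U := by
  rw [mul_mem_iff hUW hc (W.mul_mem ha hb) (W.inv_mem ha), mul_mem_iff hUW hc ha hb, inv_mem_iff]
  tauto

/-- The configuration. -/
structure Top (H P Q : Subgroup G) (y k : G) : Prop where
  P_two : IsPGroup 2 P
  P_le : P ≤ H
  Q_le : Q ≤ P
  Q_card : Nat.card P = 2 * Nat.card Q
  Q_normal : ∀ h ∈ H, ∀ q ∈ Q, h * q * h⁻¹ ∈ Q
  Q_ne : Q ≠ ⊥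
  y_P : P.map (MulAut.conj y).toMonoidHom = P
  y_sq : ∃ a ∈ P, ∃ b ∈ centralizer (P : Set G), a * b = y * y
  free : ∀ X : Subgroup G, X ≤ P → (∀ h ∈ H, ∀ x ∈ X, h * x * h⁻¹ ∈ X) → (∀ x ∈ X, y * x * y⁻¹ ∈ X) → X = ⊥
  k_mem : k ∈ H
  gen : ∀ X : Subgroup G, P ≤ X → P.map (MulAut.conj k).toMonoidHom ≤ X → H ≤ X
  meet : P ⊓ P.map (MulAut.conj k).toMonoidHom = Q

/-- The shift. -/
def sh (y k : G) : MulAut G := MulAut.conj (k * y)

/-- The chain. -/
def chain (P : Subgroup G) (y k : G) : ℕ → Subgroup G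
  | 0 => P
  | j + 1 => P ⊓ (chain P y k j).comap (sh y k).toMonoidHom

/-- The sequence attached to an element. -/
def xs (y k x : G) (i : ℕ) : G := ((sh y k) ^ i : MulAut G) x

/-- A block of consecutive members of the sequence. -/
def seg (y k x : G) (i l : ℕ) : Subgroup G := closure {a | ∃ j, i ≤ j ∧ j < i + l ∧ a = xs y k x j}

variable {H P Q : Subgroup G} {y k : G}

theorem mem_chain {a : G} {j : ℕ} : a ∈ chain P y k j ↔ ∀ i ≤ j, ((sh y k) ^ i : MulAut G) a ∈ P := by
  induction j generalizing a with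
  | zero =>
    refine ⟨fun h i hi => ?_, fun h => h 0 le_rfl⟩
    rw [Nat.le_zero.1 hi]; exact h
  | succ j ih =>
    show a ∈ P ∧ (sh y k) a ∈ chain P y k j ↔ _
    rw [ih]
    refine ⟨fun h i hi => ?_, fun h => ⟨h 0 (Nat.zero_le _), fun i hi => ?_⟩⟩
    · rcases i with _ | i
      · exact h.1
      · rw [pow_succ, MulAut.mul_apply]; exact h.2 i (by omega)
    · have := h (i + 1) (by omega)
      rwa [pow_succ, MulAut.mul_apply] at this

theorem chain_anti {i j : ℕ} (hij : i ≤ j) : chain P y k j ≤ chain P y k i := fun a ha =>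
  mem_chain.2 fun l hl => mem_chain.1 ha l (hl.trans hij)

namespace Top

variable (T : Top H P Q y k)
include T

theorem conj_P {a : G} : y * a * y⁻¹ ∈ P ↔ a ∈ P := by
  constructor
  · intro h
    rw [← T.y_P] at h
    obtain ⟨b, hb, hba⟩ := h
    change y * b * y⁻¹ = y * a * y⁻¹ at hba
    rwa [mul_left_cancel (mul_right_cancel hba)] at hb
  · intro h
    rw [← T.y_P]
    exact ⟨a, h, rfl⟩

theorem sq_Q {q : G} (hq : q ∈ Q) : y * (y * q * y⁻¹) * y⁻¹ ∈ Q := by
  obtain ⟨a, ha, b, hb, hab⟩ := T.y_sq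
  have hbq : b * q * b⁻¹ = q := by rw [← mem_centralizer_iff.1 hb q (T.Q_le hq), mul_inv_cancel_right]
  have h : y * (y * q * y⁻¹) * y⁻¹ = a * q * a⁻¹ := by
    calc y * (y * q * y⁻¹) * y⁻¹ = (a * b) * q * (a * b)⁻¹ := by rw [hab]; group
      _ = a * (b * q * b⁻¹) * a⁻¹ := by group
      _ = a * q * a⁻¹ := by rw [hbq]
  rw [h]
  exact T.Q_normal a (T.P_le ha) q hq

theorem sq_Q_iff {q : G} : y * (y * q * y⁻¹) * y⁻¹ ∈ Q ↔ q ∈ Q := by
  refine ⟨fun h => ?_, T.sq_Q⟩
  let f : Q → Q := fun a => ⟨y * (y * a * y⁻¹) * y⁻¹, T.sq_Q a.2⟩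
  obtain ⟨a, ha⟩ := (Finite.injective_iff_surjective (f := f)).1 (fun a b e => Subtype.ext
    (mul_left_cancel (mul_right_cancel (mul_left_cancel (mul_right_cancel (congrArg Subtype.val e)))))) ⟨_, h⟩
  have := mul_left_cancel (mul_right_cancel (mul_left_cancel (mul_right_cancel (congrArg Subtype.val ha))))
  exact this ▸ a.2

theorem meet_iff {a : G} : a ∈ P ∧ k⁻¹ * a * k ∈ P ↔ a ∈ Q := by
  rw [← T.meet, mem_inf, mem_map_equiv, MulAut.conj_symm_apply]

/-- The first step of the chain is the conjugate of `Q` under `y`. -/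
theorem mem_chain_one {a : G} : a ∈ chain P y k 1 ↔ y * a * y⁻¹ ∈ Q := by
  show a ∈ P ∧ (sh y k) a ∈ P ↔ _
  have e : (sh y k) a = k * (y * a * y⁻¹) * k⁻¹ := by
    show k * y * a * (k * y)⁻¹ = _
    group
  rw [e]
  constructor
  · rintro ⟨h1, h2⟩
    have h3 : k * (y * a * y⁻¹) * k⁻¹ ∈ Q := T.meet_iff.1 ⟨h2, by
      have : k⁻¹ * (k * (y * a * y⁻¹) * k⁻¹) * k = y * a * y⁻¹ := by group
      rw [this]; exact T.conj_P.2 h1⟩
    have h4 := T.Q_normal k⁻¹ (H.inv_mem T.k_mem) _ h3
    simpa [mul_assoc] using h4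
  · intro h
    exact ⟨T.conj_P.1 (T.Q_le h), T.Q_le (T.Q_normal k T.k_mem _ h)⟩

theorem shift_one_mem {a : G} (ha : a ∈ chain P y k 1) : (sh y k) a ∈ Q := by
  have e : (sh y k) a = k * (y * a * y⁻¹) * k⁻¹ := by
    show k * y * a * (k * y)⁻¹ = _
    group
  rw [e]
  exact T.Q_normal k T.k_mem _ (T.mem_chain_one.1 ha)

theorem card_chain_one : Nat.card P = 2 * Nat.card (chain P y k 1) := by
  rw [T.Q_card]
  congr 1
  refine Nat.card_congr (Equiv.symm
    { toFun := fun a => ⟨y * a * y⁻¹, T.mem_chain_one.1 a.2⟩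
      invFun := fun q => ⟨y⁻¹ * q * y, T.mem_chain_one.2 (by
        rw [show y * (y⁻¹ * (q : G) * y) * y⁻¹ = q by group]; exact q.2)⟩
      left_inv := fun a => Subtype.ext (by simp [mul_assoc])
      right_inv := fun q => Subtype.ext (by simp [mul_assoc]) })

theorem step {j : ℕ} {a b : G} (ha : a ∈ chain P y k j) (hb : b ∈ chain P y k j) :
    a * b ∈ chain P y k (j + 1) ↔ (a ∈ chain P y k (j + 1) ↔ b ∈ chain P y k (j + 1)) := by
  have key : ∀ {c : G}, c ∈ chain P y k j → (c ∈ chain P y k (j + 1) ↔ ((sh y k) ^ j : MulAut G) c ∈ chain P y k 1) := by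
    intro c hc
    rw [mem_chain (j := j + 1), mem_chain (j := 1)]
    refine ⟨fun h i hi => ?_, fun h i hi => ?_⟩
    · rw [← MulAut.mul_apply, ← pow_add]; exact h (i + j) (by omega)
    · rcases Nat.lt_or_ge i (j + 1) with hlt | hge
      · exact mem_chain.1 hc i (by omega)
      · rw [show i = 1 + j by omega, pow_add, MulAut.mul_apply]; exact h 1 le_rfl
  have haP : ((sh y k) ^ j : MulAut G) a ∈ P := mem_chain.1 ha j le_rfl
  have hbP : ((sh y k) ^ j : MulAut G) b ∈ P := mem_chain.1 hb j le_rfl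
  rw [key ha, key hb, key (mul_mem ha hb), map_mul]
  exact mul_mem_iff (chain_anti (i := 0) (Nat.zero_le 1)) T.card_chain_one haP hbP

theorem step_conj {j : ℕ} {a b : G} (ha : a ∈ chain P y k j) (hb : b ∈ chain P y k j) :
    a * b * a⁻¹ ∈ chain P y k (j + 1) ↔ b ∈ chain P y k (j + 1) := by
  rw [T.step (mul_mem ha hb) (inv_mem ha), T.step ha hb, inv_mem_iff]
  tauto

theorem card_step {j : ℕ} {x : G} (hx : x ∈ chain P y k j) (hx' : x ∉ chain P y k (j + 1)) :
    Nat.card (chain P y k j) = 2 * Nat.card (chain P y k (j + 1)) := by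
  have hle : chain P y k (j + 1) ≤ chain P y k j := chain_anti (Nat.le_succ j)
  have hi : ((chain P y k (j + 1)).subgroupOf (chain P y k j)).index = 2 := by
    rw [Subgroup.index_eq_two_iff]
    refine ⟨⟨x, hx⟩, fun b => ?_⟩
    simp only [mem_subgroupOf, Subgroup.coe_mul]
    have := T.step b.2 hx
    by_cases hbm : (b : G) ∈ chain P y k (j + 1)
    · exact Or.inr ⟨hbm, fun h => hx' ((this.1 h).1 hbm)⟩
    · exact Or.inl ⟨this.2 (by tauto), hbm⟩
  rw [← hi, ← Nat.card_congr (subgroupOfEquivOfLe hle).toEquiv, Subgroup.index_mul_card]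

/-- The subgroup where the chain stops is trivial. -/
theorem chain_stable {s : ℕ} (hs : chain P y k (s + 1) = chain P y k s)
    (hlt : ∀ j < s, chain P y k (j + 1) ≠ chain P y k j) : chain P y k s = ⊥ := by
  set E := chain P y k s with hE
  have hshift : ∀ a ∈ E, (sh y k) a ∈ E := fun a ha => ((hs.ge ha : a ∈ chain P y k (s + 1))).2
  have hshiftn : ∀ (i : ℕ), ∀ a ∈ E, ((sh y k) ^ i : MulAut G) a ∈ E := by
    intro i
    induction i with
    | zero => exact fun a ha => ha
    | succ i ih => intro a ha; rw [pow_succ', MulAut.mul_apply]; exact hshift _ (ih a ha)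
  have hsurj : ∀ i : ℕ, ∀ a ∈ E, ∃ b ∈ E, ((sh y k) ^ i : MulAut G) b = a := by
    intro i a ha
    let f : E → E := fun b => ⟨_, hshiftn i b b.2⟩
    obtain ⟨b, hb⟩ := (Finite.injective_iff_surjective (f := f)).1 (fun u v e => Subtype.ext
      (((sh y k) ^ i : MulAut G).injective (congrArg Subtype.val e))) ⟨a, ha⟩
    exact ⟨b, b.2, congrArg Subtype.val hb⟩
  have hnorm : ∀ a ∈ P, ∀ e ∈ E, a * e * a⁻¹ ∈ E := by
    rcases Nat.eq_zero_or_pos s with rfl | hs0
    · intro a ha e he; exact P.mul_mem (P.mul_mem ha he) (P.inv_mem ha)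
    obtain ⟨x, hx, hx'⟩ : ∃ x ∈ chain P y k (s - 1), x ∉ E := by
      by_contra h
      push Not at h
      have := hlt (s - 1) (by omega)
      rw [show s - 1 + 1 = s by omega] at this
      exact this (le_antisymm (chain_anti (Nat.sub_le s 1)) h)
    have key : ∀ l, l ≤ s → ∀ a ∈ chain P y k (s - l), ∀ e ∈ E, a * e * a⁻¹ ∈ E := by
      intro l
      induction l with
      | zero => intro _ a ha e he; exact mul_mem (mul_mem ha he) (inv_mem ha)
      | succ l ih =>
        intro hl a ha e he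
        set z := ((sh y k) ^ l : MulAut G) x with hz
        have hzc : z ∈ chain P y k (s - (l + 1)) := mem_chain.2 fun i hi => by
          rw [hz, ← MulAut.mul_apply, ← pow_add]; exact mem_chain.1 hx _ (by omega)
        have hzn : z ∉ chain P y k (s - l) := fun h => hx' (mem_chain.2 fun i hi => by
          rcases Nat.lt_or_ge i s with hlt' | hge
          · exact mem_chain.1 hx i (by omega)
          · have := mem_chain.1 h (i - l) (by omega)
            rwa [hz, ← MulAut.mul_apply, ← pow_add, show i - l + l = i by omega] at this)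
        have hzconj : ∀ e ∈ E, z * e * z⁻¹ ∈ E := by
          intro e he
          obtain ⟨b, hb, rfl⟩ := hsurj l e he
          rw [hz, ← map_inv, ← map_mul, ← map_mul]
          have h2 := (T.step_conj hx (chain_anti (Nat.sub_le s 1) hb)).2 (by rw [show s - 1 + 1 = s by omega]; exact hb)
          rw [show s - 1 + 1 = s by omega] at h2
          exact hshiftn l _ h2
        by_cases ha' : a ∈ chain P y k (s - l)
        · exact ih (by omega) a ha' e he
        · have h2 := T.step ha hzc
          rw [show s - (l + 1) + 1 = s - l by omega] at h2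
          have h3 : a * z ∈ chain P y k (s - l) := h2.2 (iff_of_false ha' hzn)
          let f : E → E := fun b => ⟨_, hzconj b b.2⟩
          obtain ⟨⟨b, hb⟩, hbe⟩ := (Finite.injective_iff_surjective (f := f)).1 (fun u v e => Subtype.ext
            (mul_left_cancel (mul_right_cancel (congrArg Subtype.val e)))) ⟨e, he⟩
          have hb' : z * b * z⁻¹ = e := congrArg Subtype.val hbe
          rw [← hb', show a * (z * b * z⁻¹) * a⁻¹ = (a * z) * b * (a * z)⁻¹ by group]
          exact ih (by omega) _ h3 b hb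
    intro a ha
    exact key s le_rfl a (by rw [Nat.sub_self]; exact ha)
  have hnormk : ∀ a ∈ P.map (MulAut.conj k).toMonoidHom, ∀ e ∈ E, a * e * a⁻¹ ∈ E := by
    rintro _ ⟨b, hb, rfl⟩ e he
    obtain ⟨e', he', rfl⟩ := hsurj 1 e he
    obtain ⟨b', hb', hbb⟩ : ∃ b' ∈ P, y * b' * y⁻¹ = b := by
      rw [← T.y_P] at hb
      exact hb
    have : (MulAut.conj k).toMonoidHom b = (sh y k) b' := by
      show k * b * k⁻¹ = k * y * b' * (k * y)⁻¹
      rw [← hbb]; group
    rw [this, pow_one, ← map_inv, ← map_mul, ← map_mul]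
    exact hshift _ (hnorm b' hb' e' he')
  have hH : ∀ h ∈ H, ∀ e ∈ E, h * e * h⁻¹ ∈ E := by
    have hfin : ∀ a : G, (∀ e ∈ E, a * e * a⁻¹ ∈ E) → a ∈ normalizer (E : Set G) := fun a h =>
      Subgroup.mem_normalizer_fintype h
    intro h hh e he
    exact (mem_normalizer_iff.1 (T.gen _ (fun a ha => hfin a (hnorm a ha)) (fun a ha => hfin a (hnormk a ha)) hh) e).1 he
  refine T.free E (chain_anti (i := 0) (Nat.zero_le s)) hH fun e he => ?_
  have h1 := hH k⁻¹ (H.inv_mem T.k_mem) _ (hshift e he)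
  rwa [show k⁻¹ * (sh y k) e * k⁻¹⁻¹ = y * e * y⁻¹ by
    show k⁻¹ * (k * y * e * (k * y)⁻¹) * k⁻¹⁻¹ = _
    group] at h1

/-- The sequence. -/
theorem exists_seq : ∃ s x, 1 ≤ s ∧ x ∈ chain P y k (s - 1) ∧ x * x = 1 ∧ Nat.card P = 2 ^ s ∧
    (∀ l ≤ s, seg y k x 0 l = chain P y k (s - l) ∧ Nat.card (chain P y k (s - l)) = 2 ^ l) := by
  classical
  have hex : ∃ j, chain P y k (j + 1) = chain P y k j := by
    by_contra h
    push Not at h
    have : ∀ j, Nat.card (chain P y k j) + j ≤ Nat.card P := by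
      intro j
      induction j with
      | zero => exact le_of_eq rfl
      | succ j ih =>
        have h1 : Nat.card (chain P y k (j + 1)) < Nat.card (chain P y k j) := by
          by_contra hh
          exact h j (eq_of_le_of_card_ge (chain_anti (Nat.le_succ j)) (not_lt.1 hh))
        omega
    have := this (Nat.card P + 1)
    omega
  set s := Nat.find hex
  have hlt : ∀ j < s, chain P y k (j + 1) ≠ chain P y k j := fun j hj => Nat.find_min hex hj
  have hbot := T.chain_stable (Nat.find_spec hex) hlt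
  have hs1 : 1 ≤ s := by
    rcases Nat.eq_zero_or_pos s with h | h
    · exfalso
      have hP : chain P y k 0 = ⊥ := h ▸ hbot
      change P = ⊥ at hP
      exact T.Q_ne (le_bot_iff.1 (hP ▸ T.Q_le))
    · exact h
  obtain ⟨x, hx, hx'⟩ : ∃ x ∈ chain P y k (s - 1), x ∉ chain P y k s := by
    by_contra h
    push Not at h
    have := hlt (s - 1) (by omega)
    rw [show s - 1 + 1 = s by omega] at this
    exact this (le_antisymm (chain_anti (Nat.sub_le s 1)) h)
  have hcard : ∀ l ≤ s, Nat.card (chain P y k (s - l)) = 2 ^ l := by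
    intro l
    induction l with
    | zero => intro _; rw [Nat.sub_zero, hbot, Subgroup.card_bot, pow_zero]
    | succ l ih =>
      intro hl
      obtain ⟨a, ha, ha'⟩ : ∃ a ∈ chain P y k (s - (l + 1)), a ∉ chain P y k (s - l) := by
        by_contra h
        push Not at h
        have := hlt (s - (l + 1)) (by omega)
        rw [show s - (l + 1) + 1 = s - l by omega] at this
        exact this (le_antisymm (chain_anti (by omega)) h)
      have := T.card_step ha (by rwa [show s - (l + 1) + 1 = s - l by omega])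
      rw [show s - (l + 1) + 1 = s - l by omega, ih (by omega)] at this
      rw [this, pow_succ']
  refine ⟨s, x, hs1, hx, ?_, ?_, fun l hl => ⟨?_, hcard l hl⟩⟩
  · have h1 := hcard 1 hs1
    have h2 : (⟨x, hx⟩ : chain P y k (s - 1)) ^ Nat.card (chain P y k (s - 1)) = 1 := pow_card_eq_one'
    rw [h1, pow_one, pow_two] at h2
    exact congrArg Subtype.val h2
  · have := hcard s le_rfl
    rwa [Nat.sub_self] at this
  · induction l with
    | zero =>
      rw [Nat.sub_zero, hbot, seg, closure_eq_bot_iff]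
      rintro a ⟨j, h1, h2, -⟩
      omega
    | succ l ih =>
      have ih' := ih (by omega)
      have hzc : xs y k x l ∈ chain P y k (s - (l + 1)) := mem_chain.2 fun i hi => by
        rw [xs, ← MulAut.mul_apply, ← pow_add]; exact mem_chain.1 hx _ (by omega)
      have hzn : xs y k x l ∉ chain P y k (s - l) := fun h => hx' (mem_chain.2 fun i hi => by
        rcases Nat.lt_or_ge i s with hlt' | hge
        · exact mem_chain.1 hx i (by omega)
        · have := mem_chain.1 h (i - l) (by omega)
          rwa [xs, ← MulAut.mul_apply, ← pow_add, show i - l + l = i by omega] at this)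
      refine le_antisymm ((closure_le _).2 ?_) fun a ha => ?_
      · rintro a ⟨j, -, hj, rfl⟩
        rcases Nat.lt_or_ge j l with hjl | hjl
        · exact chain_anti (show s - (l + 1) ≤ s - l by omega) (ih' ▸ subset_closure ⟨j, Nat.zero_le j, by omega, rfl⟩)
        · rw [show j = l by omega]; exact hzc
      · have hmono : seg y k x 0 l ≤ seg y k x 0 (l + 1) :=
          closure_mono fun a ⟨j, h1, h2, h3⟩ => ⟨j, h1, by omega, h3⟩
        by_cases ha' : a ∈ chain P y k (s - l)
        · exact hmono (ih'.ge ha')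
        · have h2 := T.step ha hzc
          rw [show s - (l + 1) + 1 = s - l by omega] at h2
          have h3 : a * xs y k x l ∈ seg y k x 0 (l + 1) := hmono (ih'.ge (h2.2 (iff_of_false ha' hzn)))
          have h4 : xs y k x l ∈ seg y k x 0 (l + 1) := subset_closure ⟨l, Nat.zero_le l, by omega, rfl⟩
          simpa [mul_assoc] using mul_mem h3 (inv_mem h4)

end Top

end CfsgLib.Pairs.DihedralTop
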