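import Cfsg.Prelude.Def_CaseTheorems
import Cfsg.Agent.Lib.Core.Cores
import Cfsg.Agent.Lib.Pairs.DihedralTop.Cases

/-!
# The quotient by the odd core

A group mapping onto a dihedral group of twice odd order with a kernel `Q` of order `2`, `4` or
`8` as in `Cases` is, modulo its odd core, `2²`, `S₄` or `S₄ × 2`.
-/

set_option autoImplicit false
set_option linter.all false

namespace CfsgLib.Pairs.DihedralTop

open Subgroup

universe u

variable {K : Type u} [Group K] [Finite K] {n : ℕ}

/-- Reflection parity. -/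
def parity (n : ℕ) : DihedralGroup n →* Multiplicative (ZMod 2) where
  toFun
    | .r _ => 1
    | .sr _ => Multiplicative.ofAdd 1
  map_one' := rfl
  map_mul' := by
    rintro (i | i) (j | j)
    · rfl
    · rfl
    · rfl
    · show (1 : Multiplicative (ZMod 2)) = Multiplicative.ofAdd 1 * Multiplicative.ofAdd 1
      decide

theorem parity_surjective (n : ℕ) : Function.Surjective (parity n) := fun a => by
  obtain h | h : a = 1 ∨ a = Multiplicative.ofAdd 1 := by revert a; decide
  · exact ⟨.r 0, h.symm⟩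
  · exact ⟨.sr 0, h.symm⟩

theorem parity_eq_one {d : DihedralGroup n} (h : parity n d = 1) : ∃ i, d = .r i := by
  cases d with
  | r i => exact ⟨i, rfl⟩
  | sr i => exact absurd h (show (Multiplicative.ofAdd (1 : ZMod 2)) ≠ 1 by decide)

theorem eq_one_of_odd {M : Type*} [Group M] {a : M} {p q : ℕ} (h1 : a ^ p = 1) (h2 : a ^ q = 1)
    (hpq : Nat.Coprime p q) : a = 1 := by
  rw [← orderOf_eq_one_iff]
  exact Nat.eq_one_of_dvd_coprimes hpq (orderOf_dvd_of_pow_eq_one h1) (orderOf_dvd_of_pow_eq_one h2)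

/-- A central kernel of order two over a dihedral group of twice odd order splits off. -/
theorem exists_split (π : K →* DihedralGroup n) (hπ : Function.Surjective π) (hn : Odd n)
    {z t : K} (hz1 : z ≠ 1) (hz2 : z * z = 1) (hzc : ∀ h, h * z = z * h)
    (hker : ∀ h, π h = 1 ↔ h = 1 ∨ h = z) (ht : t * t = 1) (htp : parity n (π t) ≠ 1) :
    ∃ ψ : K →* Multiplicative (ZMod 2), ψ z ≠ 1 := by
  classical
  haveI : NeZero n := ⟨hn.pos.ne'⟩
  obtain ⟨g, hg⟩ := hπ (.r 1)
  set N := ((parity n).comp π).ker with hN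
  have hkc : ∀ c, π c = 1 → ∀ h, h * c = c * h := by
    intro c hc h
    rcases (hker c).1 hc with rfl | rfl
    · rw [mul_one, one_mul]
    · exact hzc h
  have hform : ∀ h ∈ N, ∃ (j : ℕ) (c : K), π c = 1 ∧ h = g ^ j * c := by
    intro h hh
    obtain ⟨i, hi⟩ := parity_eq_one (show parity n (π h) = 1 from hh)
    refine ⟨i.val, (g ^ i.val)⁻¹ * h, ?_, by rw [mul_inv_cancel_left]⟩
    rw [map_mul, map_inv, map_pow, hg, hi, DihedralGroup.r_one_pow, ZMod.natCast_val, ZMod.cast_id,
      inv_mul_cancel]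
  have hab : ∀ a ∈ N, ∀ b ∈ N, Commute a b := by
    intro a ha b hb
    obtain ⟨i, c, hc, rfl⟩ := hform a ha
    obtain ⟨j, c', hc', rfl⟩ := hform b hb
    exact ((Commute.pow_pow_self g i j).mul_right (hkc c' hc' _)).mul_left
      ((hkc c hc _).symm : Commute c (g ^ j * c'))
  have hpow : ∀ h ∈ N, π (h ^ n) = 1 := by
    intro h hh
    obtain ⟨i, hi⟩ := parity_eq_one (show parity n (π h) = 1 from hh)
    have h1 : DihedralGroup.r i = DihedralGroup.r (1 : ZMod n) ^ i.val := by
      rw [DihedralGroup.r_one_pow, ZMod.natCast_val, ZMod.cast_id]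
    rw [map_pow, hi, h1, ← pow_mul, mul_comm, pow_mul, DihedralGroup.r_one_pow, ZMod.natCast_self,
      DihedralGroup.r_zero, one_pow]
  let L : Subgroup K :=
    { carrier := {h | h ∈ N ∧ h ^ n = 1}
      one_mem' := ⟨one_mem N, one_pow n⟩
      mul_mem' := fun {a b} ha hb => ⟨mul_mem ha.1 hb.1, by rw [(hab a ha.1 b hb.1).mul_pow, ha.2, hb.2, one_mul]⟩
      inv_mem' := fun {a} ha => ⟨inv_mem ha.1, by rw [inv_pow, ha.2, inv_one]⟩ }
  haveI : N.Normal := MonoidHom.normal_ker _
  haveI hLn : L.Normal := ⟨fun a ha g => ⟨Subgroup.Normal.conj_mem ‹N.Normal› a ha.1 g, by rw [conj_pow, ha.2, mul_one, mul_inv_cancel]⟩⟩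
  have hLz : ∀ h ∈ N, h ∈ L ∨ h * z ∈ L := by
    intro h hh
    rcases (hker _).1 (hpow h hh) with h1 | h1
    · exact Or.inl ⟨hh, h1⟩
    · refine Or.inr ⟨mul_mem hh (show parity n (π z) = 1 by rw [(hker z).2 (Or.inr rfl), map_one]), ?_⟩
      obtain ⟨j, hj⟩ := hn
      have hzn : z ^ n = z := by rw [hj, pow_succ, pow_mul, pow_two, hz2, one_pow, one_mul]
      rw [(show Commute h z from hzc h).mul_pow, h1, hzn, hz2]
  have hval : ∀ a : Multiplicative (ZMod 2), a ≠ 1 → a = Multiplicative.ofAdd 1 := by decide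
  set M := L ⊔ zpowers t with hM
  have hzM : z ∉ M := by
    intro h
    rw [hM, ← SetLike.mem_coe, Subgroup.normal_mul] at h
    obtain ⟨l, hl, c, hc, hlc⟩ := Set.mem_mul.1 h
    obtain ⟨i, rfl⟩ := mem_zpowers_iff.1 hc
    have hti : t ^ i = 1 ∨ t ^ i = t := by
      rcases Int.even_or_odd i with ⟨j, rfl⟩ | ⟨j, rfl⟩
      · left; rw [← two_mul, zpow_mul, zpow_two, ht, one_zpow]
      · right
        rw [zpow_add_one, zpow_mul, zpow_two, ht, one_zpow, one_mul]
    rcases hti with e | e <;> rw [e] at hlc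
    · rw [mul_one] at hlc
      refine hz1 (eq_one_of_odd (p := 2) (q := n) (by rw [pow_two]; exact hz2) (hlc ▸ hl.2) ?_)
      exact (Nat.coprime_two_left.2 hn)
    · refine htp ?_
      have h1 : parity n (π (l * t)) = 1 := by rw [hlc, (hker z).2 (Or.inr rfl), map_one]
      rw [map_mul, map_mul, show parity n (π l) = 1 from hl.1, one_mul] at h1
      exact h1
  have hcov : ∀ h, h ∈ M ∨ h * z ∈ M := by
    intro h
    by_cases hh : h ∈ N
    · exact (hLz h hh).imp (fun h' => le_sup_left (a := L) h') (fun h' => le_sup_left (a := L) h')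
    · have h1 : h * t ∈ N := by
        show parity n (π (h * t)) = 1
        rw [map_mul, map_mul, hval _ (show parity n (π h) ≠ 1 from hh), hval _ htp]
        decide
      have htM : t ∈ M := le_sup_right (a := L) (mem_zpowers t)
      rcases hLz _ h1 with h2 | h2
      · left
        have := mul_mem (le_sup_left (a := L) (b := zpowers t) h2) htM
        rwa [mul_assoc, ht, mul_one] at this
      · right
        have := mul_mem (le_sup_left (a := L) (b := zpowers t) h2) htM
        rwa [mul_assoc (h * t), ← hzc t, ← mul_assoc, mul_assoc h, ht, mul_one] at this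
  have hi : M.index = 2 := by
    rw [Subgroup.index_eq_two_iff]
    refine ⟨z, fun b => ?_⟩
    rcases hcov b with h | h
    · exact Or.inr ⟨h, fun h' => hzM (by simpa using mul_mem (inv_mem h) h')⟩
    · exact Or.inl ⟨h, fun h' => hzM (by simpa using mul_mem (inv_mem h') h)⟩
  haveI := Subgroup.normal_of_index_eq_two hi
  have hc2 : Nat.card (K ⧸ M) = 2 := hi
  haveI : IsCyclic (K ⧸ M) := isCyclic_of_prime_card (p := 2) hc2
  let e : K ⧸ M ≃* Multiplicative (ZMod 2) := mulEquivOfCyclicCardEq (by rw [hc2]; simp)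
  refine ⟨e.toMonoidHom.comp (QuotientGroup.mk' M), fun h => hzM ?_⟩
  exact (QuotientGroup.eq_one_iff z).1 ((map_eq_one_iff e e.injective).1 h)

/-- A surjection with kernel of odd order onto a group in which the odd core dies identifies the quotient. -/
theorem quot_oddCore {L : Type*} [Group L] (f : K →* L) (hf : Function.Surjective f)
    (hk : Odd (Nat.card f.ker)) (hO : Cfsg.oddCore K ≤ f.ker) :
    Nonempty (K ⧸ Cfsg.oddCore K ≃* L) := by
  have he : Cfsg.oddCore K = f.ker :=
    le_antisymm hO (CfsgLib.Core.le_pPrimeCore (by exact hk.coprime_two_right))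
  exact ⟨(QuotientGroup.quotientMulEquivOfEq he).trans (QuotientGroup.quotientKerEquivOfSurjective f hf)⟩

theorem quot_two (π : K →* DihedralGroup n) (hπ : Function.Surjective π) (hn : Odd n)
    {z t : K} (hz1 : z ≠ 1) (hz2 : z * z = 1) (hzc : ∀ h, h * z = z * h)
    (hker : ∀ h, π h = 1 ↔ h = 1 ∨ h = z) (ht : t * t = 1) (htp : parity n (π t) ≠ 1) :
    Nonempty (K ⧸ Cfsg.oddCore K ≃* Multiplicative (ZMod 2) × Multiplicative (ZMod 2)) := by
  classical
  obtain ⟨ψ, hψ⟩ := exists_split π hπ hn hz1 hz2 hzc hker ht htp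
  have hv : ∀ a : Multiplicative (ZMod 2), a = 1 ∨ a = Multiplicative.ofAdd 1 := by decide
  set F := ((parity n).comp π).prod ψ
  have hFz : F z = (1, Multiplicative.ofAdd 1) :=
    Prod.ext (show parity n (π z) = 1 by rw [(hker z).2 (Or.inr rfl), map_one]) ((hv (ψ z)).resolve_left hψ)
  have hF : Function.Surjective F := by
    rintro ⟨a, b⟩
    obtain ⟨h, rfl⟩ := ((parity_surjective n).comp hπ) a
    rcases hv (ψ h * b) with h1 | h1
    · refine ⟨h, Prod.ext rfl ?_⟩
      show ψ h = b
      rcases hv (ψ h) with e | e <;> rcases hv b with e' | e' <;> rw [e, e'] at h1 ⊢ <;>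
        first
          | rfl
          | exact absurd h1 (by decide)
    · refine ⟨h * z, ?_⟩
      rw [map_mul, hFz]
      refine Prod.ext (mul_one (parity n (π h))) ?_
      show ψ h * Multiplicative.ofAdd 1 = b
      rcases hv (ψ h) with e | e <;> rcases hv b with e' | e' <;> rw [e, e'] at h1 ⊢ <;>
        first
          | rfl
          | exact absurd h1 (by decide)
  have hcard : Nat.card K = 4 * n := by
    rw [← Subgroup.index_mul_card π.ker, Subgroup.index_ker, MonoidHom.range_eq_top.2 hπ, Subgroup.card_top,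
      DihedralGroup.nat_card]
    have : Nat.card π.ker = 2 := by
      show Nat.card ((π.ker : Set K)) = 2
      rw [show (π.ker : Set K) = {1, z} from Set.ext fun h => hker h, Nat.card_coe_set_eq, Set.ncard_pair hz1.symm]
    rw [this]; ring
  have hkn : Nat.card F.ker = n := by
    have h1 := Subgroup.index_mul_card F.ker
    rw [Subgroup.index_ker, MonoidHom.range_eq_top.2 hF, Subgroup.card_top, Nat.card_prod, hcard,
      show Nat.card (Multiplicative (ZMod 2)) = 2 by simp] at h1
    omega
  refine quot_oddCore F hF (hkn ▸ hn) fun h hh => ?_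
  set k : Cfsg.oddCore K := ⟨h, hh⟩
  refine eq_one_of_odd (p := 2) (q := Nat.card (Cfsg.oddCore K)) ?_ ?_
    (CfsgLib.Core.coprime_card_pPrimeCore 2 K).symm
  · have hsq : ∀ q : Multiplicative (ZMod 2) × Multiplicative (ZMod 2), q ^ 2 = 1 := by decide
    exact hsq _
  · rw [← map_pow, show h ^ Nat.card (Cfsg.oddCore K) = 1 from congrArg Subtype.val (pow_card_eq_one' (x := k)), map_one]

/-- The four-group data inside the group itself. -/
structure Move (π : K →* DihedralGroup n) (u v a b : K) : Prop where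
  u_sq : u * u = 1
  v_sq : v * v = 1
  uv : u * v = v * u
  u_ne : u ≠ 1
  v_ne : v ≠ 1
  ne : u ≠ v
  u_mem : π u = 1
  v_mem : π v = 1
  normal : (closure {u, v}).Normal
  a_sq : a * a = 1
  au : a * u * a⁻¹ = u
  av : a * v * a⁻¹ = u * v
  bv : b * v * b⁻¹ = v
  bu : b * u * b⁻¹ = u * v

theorem Move.card_four {π : K →* DihedralGroup n} {u v a b : K} (M : Move π u v a b) :
    Nat.card (closure ({u, v} : Set K)) = 4 := by
  classical
  have hset : ((closure {u, v} : Subgroup K) : Set K) = ({1, u, v, u * v} : Finset K) := by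
    ext t
    simp only [Finset.coe_insert, Finset.coe_singleton, Set.mem_insert_iff, Set.mem_singleton_iff, SetLike.mem_coe]
    refine ⟨mem_closure_pair M.u_sq M.v_sq M.uv, ?_⟩
    rintro (rfl | rfl | rfl | rfl)
    · exact one_mem _
    · exact subset_closure (Or.inl rfl)
    · exact subset_closure (Or.inr rfl)
    · exact mul_mem (subset_closure (Or.inl rfl)) (subset_closure (Or.inr rfl))
  show Nat.card ((closure {u, v} : Subgroup K) : Set K) = 4
  rw [hset, Nat.card_coe_set_eq, Set.ncard_coe_finset]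
  have h1 : u * v ≠ 1 := fun h => M.ne (mul_right_cancel (b := v) (h.trans M.v_sq.symm))
  have h2 : u * v ≠ u := fun h => M.v_ne (mul_eq_left.1 h)
  have h3 : u * v ≠ v := fun h => M.u_ne (mul_eq_right.1 h)
  rw [Finset.card_insert_of_notMem (by simp [M.u_ne.symm, M.v_ne.symm, h1.symm]),
    Finset.card_insert_of_notMem (by simp [M.ne, h2.symm]), Finset.card_insert_of_notMem (by simp [h3.symm]),
    Finset.card_singleton]

/-- The action on the four cosets of the normalizer of a `3`-element. -/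
theorem exists_four (π : K →* DihedralGroup n) (hπ : Function.Surjective π) (hn : Odd n)
    {u v a b : K} (M : Move π u v a b) {r : ℕ} (hker : Nat.card π.ker = 2 ^ r)
    (hfix : ∀ q, π q = 1 → ∃ t ∈ closure {u, v}, ∃ c, (∀ h, h * c = c * h) ∧ q = t * c) :
    ∃ f : K →* Equiv.Perm (Fin 4), Function.Surjective f ∧ Cfsg.oddCore K ≤ f.ker ∧
      ∀ c, π c = 1 → (∀ h, h * c = c * h) → f c = 1 := by
  classical
  haveI : NeZero n := ⟨hn.pos.ne'⟩
  haveI := M.normal
  set T : Subgroup K := closure {u, v} with hT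
  set C := centralizer (T : Set K) with hC
  set g := a * b with hg
  have hconj : ∀ p q t : K, p * q * t * (p * q)⁻¹ = p * (q * t * q⁻¹) * p⁻¹ := fun p q t => by group
  have auv : a * (u * v) * a⁻¹ = v := by
    rw [show a * (u * v) * a⁻¹ = (a * u * a⁻¹) * (a * v * a⁻¹) by group, M.au, M.av, ← mul_assoc, M.u_sq, one_mul]
  have gu : g * u * g⁻¹ = v := by rw [hg, hconj, M.bu, auv]
  have gv : g * v * g⁻¹ = u * v := by rw [hg, hconj, M.bv, M.av]
  have guv : g * (u * v) * g⁻¹ = u := by
    rw [show g * (u * v) * g⁻¹ = (g * u * g⁻¹) * (g * v * g⁻¹) by group, gu, gv, M.uv, ← mul_assoc, M.v_sq, one_mul]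
  have hu : u ∈ T := subset_closure (Or.inl rfl)
  have hv : v ∈ T := subset_closure (Or.inr rfl)
  have hgfix : ∀ t ∈ T, g * t = t * g → t = 1 := by
    intro t ht h
    have h' : g * t * g⁻¹ = t := by rw [h, mul_inv_cancel_right]
    rcases mem_closure_pair M.u_sq M.v_sq M.uv ht with rfl | rfl | rfl | rfl
    · rfl
    · rw [gu] at h'; exact absurd h'.symm M.ne
    · rw [gv] at h'; exact absurd (mul_eq_right.1 h') M.u_ne
    · rw [guv] at h'; exact absurd (mul_eq_left.1 h'.symm) M.v_ne
  have hg3 : g ^ 3 ∈ C := by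
    have key : ∀ t, g ^ 3 * t * (g ^ 3)⁻¹ = g * (g * (g * t * g⁻¹) * g⁻¹) * g⁻¹ := fun t => by
      simp [pow_succ, mul_assoc]
    have hu3 : g ^ 3 * u = u * g ^ 3 := mul_inv_eq_iff_eq_mul.1 (by rw [key, gu, gv, guv])
    have hv3 : g ^ 3 * v = v * g ^ 3 := mul_inv_eq_iff_eq_mul.1 (by rw [key, gv, guv, gu])
    rw [hC, hT, centralizer_closure, mem_centralizer_iff]
    rintro t (rfl | rfl)
    · exact hu3.symm
    · exact hv3.symm
  have hgC : g ∉ C := fun h => M.u_ne (hgfix u hu (mem_centralizer_iff.1 h u hu).symm)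
  have haC : a ∉ C := fun h => by
    have h1 := mem_centralizer_iff.1 h v hv
    have h2 : a * v * a⁻¹ = v := by rw [← h1, mul_inv_cancel_right]
    rw [M.av] at h2
    exact M.u_ne (mul_eq_right.1 h2)
  haveI : C.Normal := Subgroup.normal_centralizer
  have h6 : 6 ≤ C.index := by
    have h2 : orderOf (a : K ⧸ C) = 2 := orderOf_eq_prime (by
      rw [← QuotientGroup.mk_pow, pow_two, M.a_sq, QuotientGroup.mk_one])
      (fun h => haC ((QuotientGroup.eq_one_iff a).1 h))
    have h3 : orderOf (g : K ⧸ C) = 3 := orderOf_eq_prime (by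
      rw [← QuotientGroup.mk_pow]; exact (QuotientGroup.eq_one_iff _).2 hg3)
      (fun h => hgC ((QuotientGroup.eq_one_iff g).1 h))
    exact Nat.le_of_dvd Nat.card_pos ((show 6 = 2 * 3 by norm_num) ▸
      Nat.Coprime.mul_dvd_of_dvd_of_dvd (by norm_num) (h2 ▸ orderOf_dvd_natCard _) (h3 ▸ orderOf_dvd_natCard _))
  -- a three-element moving the four-group
  obtain ⟨e, m, hm, hgo⟩ := Nat.exists_eq_pow_mul_and_not_dvd (orderOf_pos g).ne' 3 (by norm_num)
  set w := g ^ m with hw
  have hwo : orderOf w = 3 ^ e := by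
    rw [hw, orderOf_pow, hgo, Nat.gcd_eq_right (dvd_mul_left m _), Nat.mul_div_cancel _ (Nat.pos_of_ne_zero fun h => hm (by rw [h]; exact dvd_zero 3))]
  have hwfix : ∀ t ∈ T, w * t = t * w → t = 1 := by
    intro t ht h
    refine hgfix t ht ?_
    have h1 : g ^ m ∈ centralizer ({t} : Set K) := mem_centralizer_singleton_iff.2 h
    have h2 : g ^ 3 ∈ centralizer ({t} : Set K) :=
      mem_centralizer_singleton_iff.2 (mem_centralizer_iff.1 hg3 t ht).symm
    have hcop : Nat.Coprime 3 m := (Nat.prime_three.coprime_iff_not_dvd).2 hm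
    have h3 : g ∈ centralizer ({t} : Set K) := by
      have hb := Nat.gcd_eq_gcd_ab 3 m
      rw [hcop.gcd_eq_one] at hb
      have := mul_mem (zpow_mem h2 (Nat.gcdA 3 m)) (zpow_mem h1 (Nat.gcdB 3 m))
      rwa [← zpow_natCast, ← zpow_natCast, ← zpow_mul, ← zpow_mul, ← zpow_add, ← hb, Nat.cast_one, zpow_one] at this
    exact mem_centralizer_singleton_iff.1 h3
  set W := zpowers w with hW
  have hWker : ∀ x ∈ W, π x = 1 → x = 1 := fun x hx hx1 => by
    have h1 : x ^ (2 ^ r) = 1 := by
      rw [← hker]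
      exact congrArg Subtype.val (pow_card_eq_one' (x := (⟨x, hx1⟩ : π.ker)))
    have h2 : x ^ (3 ^ e) = 1 := by
      rw [← hwo, ← Nat.card_zpowers]
      exact congrArg Subtype.val (pow_card_eq_one' (x := (⟨x, hx⟩ : zpowers w)))
    exact eq_one_of_odd h1 h2 (Nat.Coprime.pow r e (by norm_num))
  have hwpar : parity n (π w) = 1 := by
    refine eq_one_of_odd (p := 3 ^ e) (q := 2) ?_ ?_ (Nat.Coprime.pow_left e (by norm_num))
    · rw [← map_pow, ← map_pow, ← hwo, pow_orderOf_eq_one, map_one, map_one]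
    · have : ∀ x : Multiplicative (ZMod 2), x ^ 2 = 1 := by decide
      exact this _
  obtain ⟨j, hj⟩ := parity_eq_one hwpar
  haveI hZn : (zpowers (π w)).Normal := by
    refine ⟨fun x hx d => ?_⟩
    obtain ⟨i, rfl⟩ := mem_zpowers_iff.1 hx
    rw [← conj_zpow]
    refine zpow_mem ?_ i
    rw [hj]
    cases d with
    | r i' => simp
    | sr i' =>
      have : DihedralGroup.sr i' * DihedralGroup.r j * (DihedralGroup.sr i')⁻¹ = (DihedralGroup.r j)⁻¹ := by simp
      rw [this]
      exact inv_mem (mem_zpowers _)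
  set Mn := (zpowers (π w)).comap π with hMn
  haveI : Mn.Normal := hZn.comap π
  have hWM : W ≤ Mn := zpowers_le.2 (show π w ∈ zpowers (π w) from mem_zpowers _)
  have hWcard : Nat.card W = 3 ^ e := by rw [hW, Nat.card_zpowers, hwo]
  have hmap : W.map π = zpowers (π w) := MonoidHom.map_zpowers π w
  have hMcard : Nat.card Mn = 2 ^ r * 3 ^ e := by
    have h1 := Subgroup.index_mul_card (π.subgroupComap (zpowers (π w))).ker
    have hs : Function.Surjective (π.subgroupComap (zpowers (π w))) := fun ⟨x, hx⟩ => by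
      obtain ⟨k, rfl⟩ := hπ x
      exact ⟨⟨k, hx⟩, rfl⟩
    rw [Subgroup.index_ker, MonoidHom.range_eq_top.2 hs, Subgroup.card_top] at h1
    have h2 : Nat.card (π.subgroupComap (zpowers (π w))).ker = 2 ^ r := by
      rw [← hker]
      exact Nat.card_congr
        { toFun := fun x => ⟨x.1.1, congrArg Subtype.val x.2⟩
          invFun := fun x => ⟨⟨x.1, show π x.1 ∈ zpowers (π w) by rw [x.2]; exact one_mem _⟩, Subtype.ext x.2⟩
          left_inv := fun x => rfl
          right_inv := fun x => rfl }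
    have h3 : Nat.card (zpowers (π w)) = 3 ^ e := by
      rw [← hWcard, ← hmap]
      refine (Nat.card_congr (Equiv.ofBijective (π.subgroupMap W) ⟨?_, π.subgroupMap_surjective W⟩)).symm
      rw [injective_iff_map_eq_one]
      exact fun x hx => Subtype.ext (hWker x x.2 (congrArg Subtype.val hx))
    rw [h2, h3] at h1
    rw [mul_comm]; exact h1.symm
  haveI : Fact (Nat.Prime 3) := ⟨Nat.prime_three⟩
  let Wp : Sylow 3 Mn := Sylow.ofCard (W.subgroupOf Mn) (by
    rw [Nat.card_congr (subgroupOfEquivOfLe hWM).toEquiv, hWcard, hMcard]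
    rw [Nat.factorization_mul (by positivity) (by positivity), Finsupp.add_apply,
      Nat.prime_two.factorization_pow, Nat.prime_three.factorization_pow]
    simp)
  have hfr := Sylow.normalizer_sup_eq_top Wp
  set U := normalizer (W : Set K) with hU
  have hWp : (Wp : Subgroup Mn).map Mn.subtype = W := by
    show (W.subgroupOf Mn).map Mn.subtype = W
    rw [subgroupOf_map_subtype, inf_eq_left.2 hWM]
  rw [hWp] at hfr
  have hUπ : ∀ d, ∃ x ∈ U, π x = d := by
    intro d
    obtain ⟨k, rfl⟩ := hπ d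
    have hk : k ∈ U ⊔ Mn := hfr.symm ▸ mem_top k
    rw [← SetLike.mem_coe, Subgroup.mul_normal] at hk
    obtain ⟨x, hx, q, hq, rfl⟩ := Set.mem_mul.1 hk
    obtain ⟨i, hi⟩ := mem_zpowers_iff.1 (show π q ∈ zpowers (π w) from hq)
    exact ⟨x * w ^ i, mul_mem hx (zpow_mem (le_normalizer (show w ∈ W from mem_zpowers w)) i),
      by rw [map_mul, map_mul, map_zpow, hi]⟩
  have hUQ : ∀ q, π q = 1 → (q ∈ U ↔ ∀ h ∈ ({w} : Set K), h * q = q * h) := by
    intro q hq
    constructor
    · rintro hqU h rfl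
      have h1 : q * w * q⁻¹ * w⁻¹ = 1 := hWker _ (mul_mem ((mem_normalizer_iff.1 hqU w).1 (mem_zpowers w))
        (inv_mem (mem_zpowers w))) (by rw [map_mul, map_mul, map_mul, hq, map_inv, map_inv, hq]; simp)
      exact (mul_inv_eq_iff_eq_mul.1 (mul_inv_eq_one.1 h1)).symm
    · intro h
      have h1 := h w rfl
      refine Subgroup.mem_normalizer_fintype fun x hx => ?_
      obtain ⟨i, rfl⟩ := mem_zpowers_iff.1 hx
      rw [← conj_zpow, ← h1, mul_inv_cancel_right]
      exact zpow_mem (mem_zpowers w) i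
  have hcenU : ∀ c, π c = 1 → (∀ h, h * c = c * h) → c ∈ U := fun c hc hcc =>
    (hUQ c hc).2 fun h _ => hcc h
  have hTker : ∀ t ∈ T, π t = 1 := fun t ht =>
    (closure_le π.ker).2 (by rintro _ (rfl | rfl); exacts [M.u_mem, M.v_mem]) ht
  have hTU : ∀ t ∈ T, t ∈ U → t = 1 := fun t ht htU =>
    hwfix t ht ((hUQ t (hTker t ht)).1 htU w rfl)
  -- four cosets
  have hidx : U.index = 4 := by
    rw [Subgroup.index, ← M.card_four]
    refine (Nat.card_congr (Equiv.ofBijective (fun t : T => ((t : K) : K ⧸ U)) ⟨?_, ?_⟩)).symm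
    · intro s t h
      have h1 := QuotientGroup.eq.1 h
      exact Subtype.ext (inv_mul_eq_one.1 (hTU _ (mul_mem (inv_mem s.2) t.2) h1))
    · intro q
      induction q using QuotientGroup.induction_on with
      | H k =>
        obtain ⟨x, hx, hxk⟩ := hUπ (π k)
        have hq : π (k * x⁻¹) = 1 := by rw [map_mul, map_inv, hxk, mul_inv_cancel]
        obtain ⟨t, ht, c, hc, hkc⟩ := hfix _ hq
        refine ⟨⟨t, ht⟩, ?_⟩
        show ((t : K) : K ⧸ U) = k
        rw [QuotientGroup.eq]
        have hcq : π c = 1 := by rw [hkc, map_mul, hTker t ht, one_mul] at hq; exact hq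
        have : t⁻¹ * k = c * x := by
          rw [show k = (k * x⁻¹) * x by group, hkc]; group
        rw [this]
        exact mul_mem (hcenU c hcq hc) hx
  let ε : K ⧸ U ≃ Fin 4 := Finite.equivFinOfCardEq hidx
  let f : K →* Equiv.Perm (Fin 4) := (ε.permCongrHom.toMonoidHom).comp (MulAction.toPermHom K (K ⧸ U))
  have hfk : ∀ k, f k = 1 ↔ ∀ p : K ⧸ U, k • p = p := by
    intro k
    show ε.permCongrHom (MulAction.toPermHom K (K ⧸ U) k) = 1 ↔ _
    rw [map_eq_one_iff _ ε.permCongrHom.injective]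
    exact Equiv.ext_iff
  have hkU : f.ker ≤ U := fun k hk => by
    have := (hfk k).1 hk ((1 : K) : K ⧸ U)
    rw [MulAction.Quotient.smul_coe, QuotientGroup.eq] at this
    simpa using this
  have hTf : ∀ t ∈ T, f t = 1 → t = 1 := fun t ht h => hTU t ht (hkU h)
  have hkC : f.ker ≤ C := by
    intro k hk
    rw [hC, mem_centralizer_iff]
    intro t ht
    have h1 : k * t * k⁻¹ * t⁻¹ ∈ T := mul_mem (M.normal.conj_mem t ht k) (inv_mem ht)
    have h2 : f (k * t * k⁻¹ * t⁻¹) = 1 := by
      rw [map_mul, map_mul, map_mul, MonoidHom.mem_ker.1 hk, map_inv, map_inv, MonoidHom.mem_ker.1 hk]; simp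
    exact (mul_inv_eq_iff_eq_mul.1 (mul_inv_eq_one.1 (hTf _ h1 h2))).symm
  have hTC : T ≤ C := by
    intro t ht
    rw [hC, hT, centralizer_closure, mem_centralizer_iff]
    have hcm : ∀ t ∈ T, Commute t u ∧ Commute t v := by
      intro t ht
      rcases mem_closure_pair M.u_sq M.v_sq M.uv ht with rfl | rfl | rfl | rfl
      · exact ⟨Commute.one_left _, Commute.one_left _⟩
      · exact ⟨Commute.refl _, M.uv⟩
      · exact ⟨M.uv.symm, Commute.refl _⟩
      · exact ⟨(Commute.refl u).mul_left M.uv.symm, (show Commute u v from M.uv).mul_left (Commute.refl v)⟩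
    rintro x (rfl | rfl)
    · exact (hcm t ht).1.eq.symm
    · exact (hcm t ht).2.eq.symm
  have hCf : 4 ≤ Nat.card (C.map f) := by
    refine M.card_four.symm.trans_le ?_
    refine Nat.card_le_card_of_injective (fun t : T => (⟨f t, mem_map_of_mem f (hTC t.2)⟩ : C.map f)) ?_
    intro s t h
    refine Subtype.ext (inv_mul_eq_one.1 (hTf _ (mul_mem (inv_mem s.2) t.2) ?_))
    have h' : f s = f t := congrArg Subtype.val h
    rw [map_mul, map_inv, h', inv_mul_cancel]
  have h24 : Nat.card f.range ≤ 24 := by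
    refine (Subgroup.card_le_card_group f.range).trans (le_of_eq ?_)
    rw [Nat.card_perm, Nat.card_eq_fintype_card, Fintype.card_fin]; rfl
  have hmul : Nat.card (C.map f) * C.index = Nat.card f.range := by
    rw [← Subgroup.index_ker, ← Subgroup.relIndex_mul_index hkC, Subgroup.relIndex_ker]
  have hrange : Nat.card f.range = 24 := by
    have := Nat.mul_le_mul hCf h6
    omega
  have hC4 : Nat.card (C.map f) = 4 := by
    by_contra hne
    have := Nat.mul_le_mul (show 5 ≤ Nat.card (C.map f) by omega) h6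
    omega
  have hf : Function.Surjective f := by
    rw [← MonoidHom.range_eq_top]
    refine Subgroup.eq_top_of_card_eq _ ?_
    rw [hrange, Nat.card_perm, Nat.card_eq_fintype_card, Fintype.card_fin]; rfl
  have hO : Cfsg.oddCore K ≤ f.ker := by
    set O := Cfsg.oddCore K
    have hOT : ∀ k ∈ O, k ∈ C := by
      intro k hk
      rw [hC, mem_centralizer_iff]
      intro t ht
      have hdis : k * t * k⁻¹ * t⁻¹ = 1 := by
        have h1 : k * t * k⁻¹ * t⁻¹ ∈ T := mul_mem (M.normal.conj_mem t ht k) (inv_mem ht)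
        have h2 : k * t * k⁻¹ * t⁻¹ ∈ O := by
          rw [show k * t * k⁻¹ * t⁻¹ = k * (t * k⁻¹ * t⁻¹) by group]
          exact mul_mem hk ((Cfsg.pPrimeCore_normal 2 K).conj_mem _ (inv_mem hk) t)
        refine eq_one_of_odd (p := 4) (q := Nat.card O) ?_ ?_
          (Nat.Coprime.pow_left 2 (CfsgLib.Core.coprime_card_pPrimeCore 2 K).symm)
        · rw [← M.card_four]
          exact congrArg Subtype.val (pow_card_eq_one' (x := (⟨_, h1⟩ : T)))
        · exact congrArg Subtype.val (pow_card_eq_one' (x := (⟨_, h2⟩ : O)))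
      exact (mul_inv_eq_iff_eq_mul.1 (mul_inv_eq_one.1 hdis)).symm
    intro k hk
    refine eq_one_of_odd (p := 4) (q := Nat.card O) ?_ ?_
      (Nat.Coprime.pow_left 2 (CfsgLib.Core.coprime_card_pPrimeCore 2 K).symm)
    · have hp := fun (x : C.map f) => pow_card_eq_one' (x := x)
      rw [hC4] at hp
      exact congrArg Subtype.val (hp ⟨f k, mem_map_of_mem f (hOT k hk)⟩)
    · rw [← map_pow, show k ^ Nat.card O = 1 from congrArg Subtype.val (pow_card_eq_one' (x := (⟨k, hk⟩ : O))), map_one]
  refine ⟨f, hf, hO, fun c hc hcc => (hfk c).2 fun p => ?_⟩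
  induction p using QuotientGroup.induction_on with
  | H k =>
    rw [MulAction.Quotient.smul_coe, smul_eq_mul, ← hcc k, QuotientGroup.eq, mul_inv_rev, mul_assoc,
      inv_mul_cancel, mul_one]
    exact inv_mem (hcenU c hc hcc)

theorem card_of_ker (π : K →* DihedralGroup n) (hπ : Function.Surjective π) :
    Nat.card K = 2 * n * Nat.card π.ker := by
  rw [← Subgroup.index_mul_card π.ker, Subgroup.index_ker, MonoidHom.range_eq_top.2 hπ,
    Subgroup.card_top, DihedralGroup.nat_card]

theorem quot_eight (π : K →* DihedralGroup n) (hπ : Function.Surjective π) (hn : Odd n)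
    {u v a b : K} (M : Move π u v a b) (hker : ∀ q, π q = 1 → q ∈ closure {u, v}) :
    Nonempty (K ⧸ Cfsg.oddCore K ≃* Equiv.Perm (Fin 4)) := by
  classical
  have he : π.ker = closure {u, v} := le_antisymm hker
    ((closure_le _).2 (by rintro _ (rfl | rfl); exacts [M.u_mem, M.v_mem]))
  have hk : Nat.card π.ker = 2 ^ 2 := by rw [he, M.card_four]; norm_num
  obtain ⟨f, hf, hO, -⟩ := exists_four π hπ hn M hk fun q hq =>
    ⟨q, hker q hq, 1, fun h => by rw [mul_one, one_mul], (mul_one q).symm⟩
  refine quot_oddCore f hf ?_ hO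
  have h1 := Subgroup.index_mul_card f.ker
  rw [Subgroup.index_ker, MonoidHom.range_eq_top.2 hf, Subgroup.card_top, card_of_ker π hπ, hk,
    Nat.card_perm, Nat.card_eq_fintype_card, Fintype.card_fin, show (Nat.factorial 4) = 24 from rfl] at h1
  obtain ⟨j, rfl⟩ := hn
  rw [Nat.odd_iff]
  omega

theorem quot_sixteen (π : K →* DihedralGroup n) (hπ : Function.Surjective π) (hn : Odd n)
    {u v a b : K} (M : Move π u v a b) {z : K} (hz : π z = 1) (hz2 : z * z = 1)
    (hzT : z ∉ closure {u, v}) (hzc : ∀ h, h * z = z * h)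
    (hker : ∀ q, π q = 1 → q ∈ closure {u, v} ∨ q * z ∈ closure {u, v}) (hk : Nat.card π.ker = 2 ^ 3)
    (hap : parity n (π a) ≠ 1) :
    Nonempty (K ⧸ Cfsg.oddCore K ≃* Equiv.Perm (Fin 4) × Multiplicative (ZMod 2)) := by
  classical
  haveI := M.normal
  set T : Subgroup K := closure {u, v} with hT
  obtain ⟨f, hf, hO, hfz⟩ := exists_four π hπ hn M hk fun q hq => by
    rcases hker q hq with h | h
    · exact ⟨q, h, 1, fun h => by rw [mul_one, one_mul], (mul_one q).symm⟩
    · exact ⟨q * z, h, z, hzc, by rw [mul_assoc, hz2, mul_one]⟩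
  have hTle : T ≤ π.ker := (closure_le _).2 (by rintro _ (rfl | rfl); exacts [M.u_mem, M.v_mem])
  let πb : K ⧸ T →* DihedralGroup n := QuotientGroup.lift T π hTle
  have hπb : Function.Surjective πb := fun d => by
    obtain ⟨k, rfl⟩ := hπ d
    exact ⟨k, rfl⟩
  obtain ⟨ψ, hψ⟩ := exists_split πb hπb hn (z := (z : K ⧸ T)) (t := (a : K ⧸ T))
    (fun h => hzT ((QuotientGroup.eq_one_iff z).1 h))
    (by rw [← QuotientGroup.mk_mul, hz2, QuotientGroup.mk_one])
    (fun h => by
      induction h using QuotientGroup.induction_on with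
      | H k => rw [← QuotientGroup.mk_mul, ← QuotientGroup.mk_mul, hzc])
    (fun h => by
      induction h using QuotientGroup.induction_on with
      | H k =>
        refine ⟨fun h => ?_, ?_⟩
        · rcases hker k h with h' | h'
          · exact Or.inl ((QuotientGroup.eq_one_iff k).2 h')
          · refine Or.inr ?_
            have h2 : (z : K ⧸ T) * z = 1 := by rw [← QuotientGroup.mk_mul, hz2, QuotientGroup.mk_one]
            have := (QuotientGroup.eq_one_iff (N := T) (k * z)).2 h'
            rw [QuotientGroup.mk_mul] at this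
            exact mul_right_cancel (this.trans h2.symm)
        · rintro (h | h) <;> rw [h]
          · exact map_one πb
          · exact hz)
    (by rw [← QuotientGroup.mk_mul, M.a_sq, QuotientGroup.mk_one]) hap
  let F := f.prod (ψ.comp (QuotientGroup.mk' T))
  have hv : ∀ p q : Multiplicative (ZMod 2), q ≠ 1 → ∀ b, p = b ∨ p * q = b := by decide
  have hF : Function.Surjective F := by
    rintro ⟨σ, c⟩
    obtain ⟨k, rfl⟩ := hf σ
    rcases hv (ψ k) _ hψ c with h | h
    · exact ⟨k, Prod.ext rfl h⟩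
    · refine ⟨k * z, Prod.ext ?_ ?_⟩
      · show f (k * z) = f k
        rw [map_mul, hfz z hz hzc, mul_one]
      · show ψ ((k * z : K) : K ⧸ T) = c
        rw [QuotientGroup.mk_mul, map_mul]
        exact h
  refine quot_oddCore F hF ?_ fun k hk' => ?_
  · have h1 := Subgroup.index_mul_card F.ker
    rw [Subgroup.index_ker, MonoidHom.range_eq_top.2 hF, Subgroup.card_top, card_of_ker π hπ, hk,
      Nat.card_prod, Nat.card_perm, Nat.card_eq_fintype_card, Fintype.card_fin,
      show Nat.card (Multiplicative (ZMod 2)) = 2 by simp, show (Nat.factorial 4) = 24 from rfl] at h1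
    obtain ⟨j, rfl⟩ := hn
    rw [Nat.odd_iff]
    omega
  · refine Prod.ext (hO hk') ?_
    refine eq_one_of_odd (p := 2) (q := Nat.card (Cfsg.oddCore K)) ?_ ?_
      (CfsgLib.Core.coprime_card_pPrimeCore 2 K).symm
    · have : ∀ x : Multiplicative (ZMod 2), x ^ 2 = 1 := by decide
      exact this _
    · show (ψ (QuotientGroup.mk' T k)) ^ _ = 1
      rw [← map_pow, ← map_pow, show k ^ Nat.card (Cfsg.oddCore K) = 1 from
        congrArg Subtype.val (pow_card_eq_one' (x := (⟨k, hk'⟩ : Cfsg.oddCore K))), map_one, map_one]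

end CfsgLib.Pairs.DihedralTop
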