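import Cfsg.Prelude.Def_CaseTheorems
import Cfsg.Agent.Lib.Pairs.DihedralTop.Structure

/-!
# A dihedral quotient with an outer element normalising a Sylow 2-subgroup
-/

set_option autoImplicit false
set_option linter.all false

open scoped Pointwise

namespace CfsgLib.Pairs.DihedralTop

open Subgroup

universe u

variable {G : Type u} [Group G] [Finite G]

theorem even_core {n : ℕ} [NeZero n] (hcore : Cfsg.pCore 2 (DihedralGroup n) = ⊥) : Odd n := by
  rw [← Nat.not_even_iff_odd]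
  rintro ⟨m, hm⟩
  subst hm
  haveI : Fact (Nat.Prime 2) := ⟨Nat.prime_two⟩
  have hm2 : (m : ZMod (m + m)) + m = 0 := by rw [← Nat.cast_add]; exact ZMod.natCast_self _
  have hc : DihedralGroup.r (m : ZMod (m + m)) ∈ center (DihedralGroup (m + m)) := by
    rw [mem_center_iff]
    rintro (i | i)
    · simp [add_comm]
    · simp [sub_eq_add_neg, eq_neg_of_add_eq_zero_left hm2 ▸ (rfl : (m : ZMod (m + m)) = m)]
      linear_combination hm2
  haveI : (zpowers (DihedralGroup.r (m : ZMod (m + m)))).Normal := by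
    refine ⟨fun x hx g => ?_⟩
    have hxc : x ∈ center (DihedralGroup (m + m)) := zpowers_le.2 hc hx
    rw [mem_center_iff.1 hxc g, mul_inv_cancel_right]
    exact hx
  have h1 : DihedralGroup.r (m : ZMod (m + m)) ^ 2 = 1 := by
    rw [pow_two, DihedralGroup.r_mul_r, hm2, DihedralGroup.r_zero]
  have hle : zpowers (DihedralGroup.r (m : ZMod (m + m))) ≤ Cfsg.pCore 2 (DihedralGroup (m + m)) := by
    refine CfsgLib.Core.le_pCore (IsPGroup.of_card_dvd_pow (n := 1) ?_)
    rw [Nat.card_zpowers, pow_one]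
    exact orderOf_dvd_of_pow_eq_one h1
  rw [hcore, le_bot_iff, zpowers_eq_bot] at hle
  have h2 : (m : ZMod (m + m)) = 0 := by
    rw [DihedralGroup.one_def] at hle
    exact DihedralGroup.r.inj hle
  rw [ZMod.natCast_eq_zero_iff] at h2 <;> try assumption
  have := Nat.le_of_dvd (Nat.pos_of_ne_zero fun h => NeZero.ne (m + m) (by omega)) h2
  have := NeZero.pos (m + m)
  omega

theorem main (H : Subgroup G) (hO : Cfsg.pCore 2 ↥H ≠ ⊥) (n : ℕ) (hn : 2 ≤ n)
    (hdih : Nonempty (↥H ⧸ Cfsg.pCore 2 ↥H ≃* DihedralGroup n))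
    (P : Subgroup G) (hPH : P ≤ H) (hP : IsPGroup 2 P) (hPsyl : ¬ 2 ∣ P.relIndex H)
    (S : Sylow 2 G) (hPS : P ≤ (S : Subgroup G)) (y : G) (hyS : y ∈ (S : Subgroup G)) (hyP : y ∉ P)
    (hy2 : y ^ 2 ∈ P ⊔ Subgroup.centralizer (P : Set G)) (hyN : MulAut.conj y • P = P)
    (hyQ : ∀ Q : Subgroup G, Q ≤ P → (Q.subgroupOf H).Normal → MulAut.conj y • Q = Q → Q = ⊥) :
    (Nat.card P = 4 ∨ Nat.card P = 8 ∨ Nat.card P = 16) ∧
    (Nonempty (↥H ⧸ Cfsg.oddCore ↥H ≃* Multiplicative (ZMod 2) × Multiplicative (ZMod 2)) ∨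
     Nonempty (↥H ⧸ Cfsg.oddCore ↥H ≃* Equiv.Perm (Fin 4)) ∨
     Nonempty (↥H ⧸ Cfsg.oddCore ↥H ≃* Equiv.Perm (Fin 4) × Multiplicative (ZMod 2))) := by
  classical
  obtain ⟨φ⟩ := hdih
  haveI : Fact (Nat.Prime 2) := ⟨Nat.prime_two⟩
  haveI : NeZero n := ⟨by omega⟩
  set Q₀ := Cfsg.pCore 2 ↥H with hQ₀
  have hcore : Cfsg.pCore 2 (DihedralGroup n) = ⊥ := by
    rw [← CfsgLib.Core.map_equiv_pCore φ, CfsgLib.Core.pCore_quotient_pCore, Subgroup.map_bot]
  have hodd : Odd n := even_core hcore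
  let π : ↥H →* DihedralGroup n := φ.toMonoidHom.comp (QuotientGroup.mk' Q₀)
  have hπ : Function.Surjective π := φ.surjective.comp (QuotientGroup.mk'_surjective Q₀)
  have hker : ∀ h : ↥H, π h = 1 ↔ h ∈ Q₀ := fun h => by
    show φ (h : ↥H ⧸ Q₀) = 1 ↔ _
    rw [map_eq_one_iff _ φ.injective, QuotientGroup.eq_one_iff]
  have hkereq : π.ker = Q₀ := Subgroup.ext fun h => hker h
  obtain ⟨r, hr⟩ := IsPGroup.iff_card.1 (CfsgLib.Core.isPGroup_pCore 2 ↥H)
  set Q := Q₀.map H.subtype with hQ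
  have hQcard : Nat.card Q = 2 ^ r := by
    rw [hQ, card_map_of_injective H.subtype_injective, hr]
  have hmemQ : ∀ h : ↥H, (h : G) ∈ Q ↔ π h = 1 := fun h => by
    rw [hker, hQ]
    exact mem_map_iff_mem H.subtype_injective
  have hPi : IsPGroup 2 (P.subgroupOf H) := hP.of_equiv (subgroupOfEquivOfLe hPH).symm
  let PS : Sylow 2 ↥H := hPi.toSylow hPsyl
  have hQP : Q ≤ P := by
    rintro _ ⟨h, hh, rfl⟩
    exact (CfsgLib.Core.pCore_le_sylow PS hh : h ∈ P.subgroupOf H)
  obtain ⟨a, ha⟩ := IsPGroup.iff_card.1 hP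
  have hHcard : Nat.card H = 2 ^ (r + 1) * n := by
    rw [card_of_ker π hπ, hkereq, hr]; ring
  have hPcard : Nat.card P = 2 ^ (r + 1) := by
    have h1 : Nat.card P * P.relIndex H = 2 ^ (r + 1) * n := by
      rw [← hHcard, mul_comm, Subgroup.relIndex, ← Nat.card_congr (subgroupOfEquivOfLe hPH).toEquiv,
        Subgroup.index_mul_card]
    rw [ha] at h1 ⊢
    refine Nat.dvd_antisymm ?_ ?_
    · exact (Nat.Coprime.pow_left a (Nat.coprime_two_left.2 hodd)).dvd_of_dvd_mul_right ⟨_, h1.symm⟩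
    · exact (Nat.Coprime.pow_left (r + 1) (Nat.prime_two.coprime_iff_not_dvd.2 hPsyl)).dvd_of_dvd_mul_right ⟨_, h1⟩
  have hQc : Nat.card P = 2 * Nat.card Q := by rw [hPcard, hQcard, pow_succ']
  have hpar : ∀ p : ↥H, (p : G) ∈ P → (p : G) ∉ Q → parity n (π p) ≠ 1 := by
    intro p hp hpQ h
    obtain ⟨i, hi⟩ := parity_eq_one h
    refine hpQ ((hmemQ p).2 (eq_one_of_odd (p := 2 ^ (r + 1)) (q := n) ?_ ?_
      (Nat.Coprime.pow_left _ (Nat.coprime_two_left.2 hodd))))
    · rw [← map_pow, ← hPcard, show p ^ Nat.card P = 1 from Subtype.ext (by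
        rw [SubgroupClass.coe_pow]
        exact congrArg Subtype.val (pow_card_eq_one' (x := (⟨p, hp⟩ : P)))), map_one]
    · rw [hi, show i = ((i.val : ℕ) : ZMod n) by rw [ZMod.natCast_val, ZMod.cast_id], ← DihedralGroup.r_one_pow,
        ← pow_mul, mul_comm, pow_mul, DihedralGroup.r_one_pow, ZMod.natCast_self, DihedralGroup.r_zero, one_pow]
  obtain ⟨p₀, hp₀, hp₀Q⟩ : ∃ p ∈ P, p ∉ Q := by
    by_contra h
    push Not at h
    have := Subgroup.card_le_of_le h
    have hp := Nat.two_pow_pos r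
    omega
  set p' : ↥H := ⟨p₀, hPH hp₀⟩
  obtain ⟨i, hi⟩ : ∃ i, π p' = DihedralGroup.sr i := by
    have := hpar p' hp₀ hp₀Q
    rcases h : π p' with j | j
    · rw [h] at this; exact absurd rfl this
    · exact ⟨j, rfl⟩
  have hQimg : ∀ p : ↥H, (p : G) ∈ P → (p : G) ∉ Q → π p = DihedralGroup.sr i := by
    intro p hp hpQ
    have h1 : ((p * p' : ↥H) : G) ∈ Q := (mul_mem_iff hQP hQc hp hp₀).2 (iff_of_false hpQ hp₀Q)
    have h2 := (hmemQ _).1 h1
    rw [map_mul, hi] at h2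
    rw [mul_eq_one_iff_eq_inv.1 h2, DihedralGroup.inv_sr]
  obtain ⟨k, hk⟩ := hπ (DihedralGroup.r 1)
  have h2ne : (1 : ZMod n) + 1 ≠ 0 := by
    intro h
    have h' : ((2 : ℕ) : ZMod n) = 0 := by rw [Nat.cast_two, ← one_add_one_eq_two, h]
    rw [ZMod.natCast_eq_zero_iff] at h' <;> try assumption
    have := Nat.le_of_dvd (by norm_num) h'
    obtain ⟨j, rfl⟩ := hodd
    omega
  have hQn : ∀ h ∈ H, ∀ q ∈ Q, h * q * h⁻¹ ∈ Q := by
    rintro h hh _ ⟨q, hq, rfl⟩
    exact ⟨⟨h, hh⟩ * q * ⟨h, hh⟩⁻¹, (Cfsg.pCore_normal 2 ↥H).conj_mem q hq _, rfl⟩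
  have hfix : ∀ X : Subgroup G, (∀ x ∈ X, y * x * y⁻¹ ∈ X) → MulAut.conj y • X = X := by
    intro X hX
    refine eq_of_le_of_card_ge ?_ (le_of_eq (card_map_of_injective (MulAut.conj y).injective).symm)
    rintro _ ⟨x, hx, rfl⟩
    exact hX x hx
  have hT : Top H P Q y (k : G) := by
    refine ⟨hP, hPH, hQP, hQc, hQn, ?_, hyN, ?_, ?_, k.2, ?_, ?_⟩
    · exact fun h => hO ((map_eq_bot_iff_of_injective _ H.subtype_injective).1 h)
    · rw [← SetLike.mem_coe, coe_mul_of_left_le_normalizer_right] at hy2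
      · obtain ⟨a', ha', b, hb, hab⟩ := Set.mem_mul.1 hy2
        exact ⟨a', ha', b, hb, by rw [hab, pow_two]⟩
      · intro p hp
        refine mem_normalizer_fintype fun c hc => ?_
        rw [SetLike.mem_coe, mem_centralizer_iff] at hc ⊢
        intro q hq
        have h1 := hc (p⁻¹ * q * p) (P.mul_mem (P.mul_mem (P.inv_mem hp) hq) hp)
        calc q * (p * c * p⁻¹) = p * ((p⁻¹ * q * p) * c) * p⁻¹ := by group
          _ = p * (c * (p⁻¹ * q * p)) * p⁻¹ := by rw [h1]
          _ = p * c * p⁻¹ * q := by group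
    · intro X hXP hXH hXy
      refine hyQ X hXP ⟨fun x hx g => ?_⟩ (hfix X hXy)
      exact hXH g g.2 x hx
    · intro X hPX hkX
      have hker' : π.ker ≤ X.subgroupOf H := fun h hh => hPX (hQP ((hmemQ h).2 hh))
      have hX : (X.subgroupOf H).map π = ⊤ := by
        have h1 : DihedralGroup.sr i ∈ (X.subgroupOf H).map π := ⟨p', hPX hp₀, hi⟩
        have h2 : DihedralGroup.r 1 * DihedralGroup.sr i * (DihedralGroup.r 1)⁻¹ ∈ (X.subgroupOf H).map π := by
          refine ⟨k * p' * k⁻¹, hkX ⟨p₀, hp₀, rfl⟩, ?_⟩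
          rw [map_mul, map_mul, map_inv, hk, hi]
        have h3 : DihedralGroup.r ((2 : ℕ) : ZMod n) ∈ (X.subgroupOf H).map π := by
          have := mul_mem h2 h1
          simp only [DihedralGroup.inv_r, DihedralGroup.r_mul_sr, DihedralGroup.sr_mul_r, DihedralGroup.sr_mul_sr] at this
          rwa [show i - (i - 1 + -1) = ((2 : ℕ) : ZMod n) by push_cast; ring] at this
        have h4 : DihedralGroup.r (1 : ZMod n) ∈ (X.subgroupOf H).map π := by
          obtain ⟨j, hj⟩ := hodd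
          have := pow_mem h3 (j + 1)
          rw [← DihedralGroup.r_one_pow, ← pow_mul, show 2 * (j + 1) = n + 1 by omega, pow_succ,
            DihedralGroup.r_one_pow, ZMod.natCast_self, DihedralGroup.r_zero, one_mul] at this
          exact this
        refine (eq_top_iff' _).2 fun d => ?_
        have h5 : ∀ j : ZMod n, DihedralGroup.r j ∈ (X.subgroupOf H).map π := fun j => by
          have := pow_mem h4 j.val
          rwa [DihedralGroup.r_one_pow, ZMod.natCast_val, ZMod.cast_id] at this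
        cases d with
        | r j => exact h5 j
        | sr j =>
          have := mul_mem h1 (h5 (j - i))
          rwa [DihedralGroup.sr_mul_r, add_sub_cancel] at this
      intro g hg
      have h6 := congrArg (Subgroup.comap π) hX
      rw [Subgroup.comap_map_eq, Subgroup.comap_top, sup_of_le_left hker'] at h6
      exact (h6.symm ▸ mem_top (⟨g, hg⟩ : ↥H) : (⟨g, hg⟩ : ↥H) ∈ X.subgroupOf H)
    · refine le_antisymm ?_ (le_inf hQP fun q hq => ?_)
      · rintro g ⟨hgP, ⟨b, hb, hbe⟩⟩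
        by_contra hgQ
        have hbe' : (k : G) * b * (k : G)⁻¹ = g := hbe
        set b' : ↥H := ⟨b, hPH hb⟩
        have hbQ : b ∉ Q := fun h => hgQ (hbe' ▸ hQn k k.2 b h)
        have h1 := hQimg ⟨g, hPH hgP⟩ hgP hgQ
        have h2 : (⟨g, hPH hgP⟩ : ↥H) = k * b' * k⁻¹ := Subtype.ext hbe'.symm
        rw [h2, map_mul, map_mul, map_inv, hk, hQimg b' hb hbQ] at h1
        simp only [DihedralGroup.inv_r, DihedralGroup.r_mul_sr, DihedralGroup.sr_mul_r, DihedralGroup.sr.injEq] at h1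
        exact h2ne (by linear_combination -h1)
      · refine ⟨(k : G)⁻¹ * q * k, hQP ?_, ?_⟩
        · simpa using hQn (k : G)⁻¹ (H.inv_mem k.2) q hq
        · show (k : G) * ((k : G)⁻¹ * q * k) * (k : G)⁻¹ = q
          group
  have hMove : ∀ {u v a b : G}, Four H P Q u v a b → ∀ (huH : u ∈ H) (hvH : v ∈ H) (haH : a ∈ H) (hbH : b ∈ H),
      Move π (⟨u, huH⟩ : ↥H) ⟨v, hvH⟩ ⟨a, haH⟩ ⟨b, hbH⟩ := by
    intro u v a b F huH hvH haH hbH
    refine ⟨Subtype.ext F.u_sq, Subtype.ext F.v_sq, Subtype.ext F.uv, fun h => F.u_ne (congrArg Subtype.val h),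
      fun h => F.v_ne (congrArg Subtype.val h), fun h => F.ne (congrArg Subtype.val h), (hmemQ _).1 F.u_mem,
      (hmemQ _).1 F.v_mem, ?_, Subtype.ext F.a_sq, Subtype.ext F.au, Subtype.ext F.av, Subtype.ext F.bv,
      Subtype.ext F.bu⟩
    have hmap : (closure {(⟨u, huH⟩ : ↥H), ⟨v, hvH⟩}).map H.subtype = closure {u, v} := by
      rw [MonoidHom.map_closure, Set.image_pair]; rfl
    refine ⟨fun t ht g => ?_⟩
    rw [← mem_map_iff_mem H.subtype_injective, hmap]
    exact F.normal g g.2 t (hmap ▸ mem_map_of_mem H.subtype ht)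
  have hclo : ∀ {u v : G} (huH : u ∈ H) (hvH : v ∈ H) (t : ↥H),
      t ∈ closure {(⟨u, huH⟩ : ↥H), ⟨v, hvH⟩} ↔ (t : G) ∈ closure ({u, v} : Set G) := by
    intro u v huH hvH t
    have hmap : (closure {(⟨u, huH⟩ : ↥H), ⟨v, hvH⟩}).map H.subtype = closure {u, v} := by
      rw [MonoidHom.map_closure, Set.image_pair]; rfl
    rw [← hmap]
    exact (mem_map_iff_mem H.subtype_injective).symm
  rcases hT.shapes with ⟨hc, hexp⟩ | ⟨hc, u, v, a, b, F⟩ | ⟨hc, u, v, a, b, z, F, hzQ, hz2, hzT, hzc⟩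
  · refine ⟨Or.inl hc, Or.inl ?_⟩
    have hr1 : r = 1 := by
      rw [hPcard] at hc
      have := Nat.pow_right_injective (le_refl 2) (show 2 ^ (r + 1) = 2 ^ 2 from hc)
      omega
    have h2 : Nat.card Q₀ = 2 := by rw [hr, hr1]; norm_num
    obtain ⟨z, hz, hz1⟩ := Q₀.bot_or_exists_ne_one.resolve_left hO
    have hmem : ∀ h : ↥H, h ∈ Q₀ → h = 1 ∨ h = z := by
      intro h hh
      by_contra hne
      push Not at hne
      obtain ⟨x, y', hxy, huniv⟩ := Nat.card_eq_two_iff.1 h2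
      have a1 := huniv.ge (Set.mem_univ (1 : Q₀))
      have a2 := huniv.ge (Set.mem_univ (⟨z, hz⟩ : Q₀))
      have a3 := huniv.ge (Set.mem_univ (⟨h, hh⟩ : Q₀))
      simp only [Set.mem_insert_iff, Set.mem_singleton_iff] at a1 a2 a3
      rcases a1 with a1 | a1 <;> rcases a2 with a2 | a2 <;> rcases a3 with a3 | a3 <;>
        first
          | exact hz1 (congrArg Subtype.val (a2.trans a1.symm))
          | exact hne.1 (congrArg Subtype.val (a3.trans a1.symm))
          | exact hne.2 (congrArg Subtype.val (a3.trans a2.symm))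
    have hz2 : z * z = 1 := by
      rcases hmem _ (mul_mem hz hz) with h | h
      · exact h
      · exact absurd (mul_eq_left.1 h) hz1
    refine quot_two π hπ hodd hz1 hz2 (fun h => ?_) (fun h => ⟨fun hh => hmem h ((hker h).1 hh), ?_⟩)
      (t := p') (Subtype.ext (hexp p₀ hp₀)) (hpar p' hp₀ hp₀Q)
    · rcases hmem _ ((Cfsg.pCore_normal 2 ↥H).conj_mem z hz h) with e | e
      · exact absurd (mul_left_cancel ((mul_inv_eq_one.1 e).trans (mul_one h).symm)) hz1
      · exact mul_inv_eq_iff_eq_mul.1 e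
    · rintro (rfl | rfl)
      · exact map_one π
      · exact (hker _).2 hz
  · refine ⟨Or.inr (Or.inl hc), Or.inr (Or.inl ?_)⟩
    have huH := hPH (hQP F.u_mem)
    have hvH := hPH (hQP F.v_mem)
    have M := hMove F huH hvH (hPH F.a_mem) F.b_mem
    refine quot_eight π hπ hodd M fun q hq => ?_
    rw [hclo]
    have hle : (closure {(⟨u, huH⟩ : ↥H), ⟨v, hvH⟩}).map H.subtype = Q := by
      refine eq_of_le_of_card_ge ?_ ?_
      · rintro _ ⟨t, ht, rfl⟩
        exact (closure_le Q).2 (by rintro _ (rfl | rfl); exacts [F.u_mem, F.v_mem]) ((hclo huH hvH t).1 ht)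
      · have e := card_map_of_injective (K := closure {(⟨u, huH⟩ : ↥H), ⟨v, hvH⟩}) H.subtype_injective
        rw [e, M.card_four, hQcard]
        rw [hPcard, pow_succ] at hc
        omega
    exact (hclo huH hvH q).1 ((mem_map_iff_mem H.subtype_injective).1 (hle.symm ▸ (hmemQ q).2 hq))
  · refine ⟨Or.inr (Or.inr hc), Or.inr (Or.inr ?_)⟩
    have huH := hPH (hQP F.u_mem)
    have hvH := hPH (hQP F.v_mem)
    have M := hMove F huH hvH (hPH F.a_mem) F.b_mem
    set z' : ↥H := ⟨z, hPH (hQP hzQ)⟩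
    have hTQ : closure ({u, v} : Set G) ≤ Q := (closure_le Q).2 (by rintro _ (rfl | rfl); exacts [F.u_mem, F.v_mem])
    have hT4 : Nat.card (closure ({u, v} : Set G)) = 4 := by
      rw [← M.card_four, ← card_map_of_injective (f := H.subtype) H.subtype_injective, MonoidHom.map_closure,
        Set.image_pair]
      rfl
    have hr3 : r = 3 := by
      rw [hPcard] at hc
      have := Nat.pow_right_injective (le_refl 2) (show 2 ^ (r + 1) = 2 ^ 4 from hc)
      omega
    have haQ : a ∉ Q := fun h => by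
      have h1 := F.fixed a h v (subset_closure (Or.inr rfl))
      have h2 := F.av
      rw [h1.eq, mul_inv_cancel_right] at h2
      exact F.u_ne (mul_eq_right.1 h2.symm)
    refine quot_sixteen π hπ hodd M (z := z') ((hmemQ z').1 hzQ) (Subtype.ext hz2)
      (fun h => hzT ((hclo huH hvH z').1 h)) (fun h => Subtype.ext (hzc h h.2)) (fun q hq => ?_)
      (by rw [hkereq, hr, hr3]) (hpar _ F.a_mem haQ)
    rw [hclo, hclo]
    by_cases h : (q : G) ∈ closure ({u, v} : Set G)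
    · exact Or.inl h
    · exact Or.inr ((mul_mem_iff hTQ (by rw [hQcard, hT4, hr3]; norm_num) ((hmemQ q).2 hq) hzQ).2
        (iff_of_false h hzT))

end CfsgLib.Pairs.DihedralTop
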